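import Groth.Agent.Lib.RedPts.Ga
import Groth.Agent.Lib.RedPts.Gm
import Groth.Agent.S13370

/-!
# Units on products of two additive groups
-/

set_option autoImplicit false

universe u

open CategoryTheory AlgebraicGeometry MonObj MonoidalCategory CartesianMonoidalCategory

noncomputable section

namespace Groth.Agent.Lib.GaGmExt.Units

open Groth.Agent.Lib.RedPts

/-- Over a reduced base, units on the product of two additive groups come from the base. -/
theorem const_tensor (X : Scheme.{u}) [IsReduced X] (w : Red.Ga X ⊗ Red.Ga X ⟶ Red.Gm X) :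
    ∃ v : 𝟙_ (Over X) ⟶ Red.Gm X, toUnit _ ≫ v = w := by
  let n := ULift.{u} (Fin 2)
  let A : Over X := Over.mk (𝔸(n; X) ↘ X)
  let g : A ⟶ Red.Ga X ⊗ Red.Ga X :=
    lift (Ga.gaPt (X := A) (AffineSpace.coord X (⟨0⟩ : n)))
      (Ga.gaPt (X := A) (AffineSpace.coord X (⟨1⟩ : n)))
  let c : n → Γ((Red.Ga X ⊗ Red.Ga X).left, ⊤) :=
    fun i => if i.down = 0 then Red.gaFn (fst (Red.Ga X) (Red.Ga X)) else
      Red.gaFn (snd (Red.Ga X) (Red.Ga X))
  let e : Red.Ga X ⊗ Red.Ga X ⟶ A := Over.homMk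
    (AffineSpace.homOfVector (Red.Ga X ⊗ Red.Ga X).hom c) (AffineSpace.homOfVector_over _ _)
  have heg : e ≫ g = 𝟙 _ := by
    apply CartesianMonoidalCategory.hom_ext
    · rw [Category.id_comp, Category.assoc, lift_fst]
      apply Ga.gaFn_injective
      rw [Ga.gaFn_comp, Ga.gaFn_gaPt]
      exact AffineSpace.homOfVector_appTop_coord _ _ _
    · rw [Category.id_comp, Category.assoc, lift_snd]
      apply Ga.gaFn_injective
      rw [Ga.gaFn_comp, Ga.gaFn_gaPt]
      exact AffineSpace.homOfVector_appTop_coord _ _ _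
  obtain ⟨v, hvu, hv⟩ := Groth.Agent.S13370.result n X _ (Gm.isUnit_gmFn (g ≫ w))
  refine ⟨Gm.gmPt (X := 𝟙_ (Over X)) hvu.unit, Gm.gmFn_injective ?_⟩
  rw [Gm.gmFn_comp, Gm.gmFn_gmPt]
  conv_rhs => rw [← Category.id_comp w, ← heg, Category.assoc, Gm.gmFn_comp, ← hv]
  change _ = (e.left.appTop) (((𝔸(n; X) ↘ X)).appTop v)
  rw [← CommRingCat.comp_apply, ← Scheme.Hom.comp_appTop]
  rw [show e.left ≫ (𝔸(n; X) ↘ X) = (Red.Ga X ⊗ Red.Ga X).hom from Over.w e]
  rfl

end Groth.Agent.Lib.GaGmExt.Units
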