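import Groth.Agent.Lib.GaGmExt.AffLift
import Groth.Agent.Lib.GaGmExt.Units
import Groth.Agent.Lib.PicGen.OpenUFD
import Mathlib.RingTheory.Polynomial.UniqueFactorization

/-!
# Successive extensions of additive groups are affine spaces
-/

set_option autoImplicit false
set_option linter.style.haveILetI false

universe u

open CategoryTheory CategoryTheory.Limits AlgebraicGeometry Opposite MonObj MonoidalCategory CartesianMonoidalCategory

noncomputable section

namespace Groth.Agent.Lib.GaGmExt.Tower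

open Groth.Agent.Lib.GaGmExt.Sect Groth.Agent.Lib.RedPts

variable {X : Scheme.{u}}

/-- Affine space over the base. -/
abbrev aff (n : Type u) (X : Scheme.{u}) : Over X := Over.mk (𝔸(n; X) ↘ X)

/-- Isomorphic to an affine space. -/
def IsAff (G : Over X) : Prop := ∃ (n : Type u) (_ : Finite n), Nonempty (G ≅ aff n X)

theorem aff_hom_ext {n : Type u} {W : Over X} {f g : W ⟶ aff n X}
    (h : ∀ i, f.left.appTop (AffineSpace.coord X i) = g.left.appTop (AffineSpace.coord X i)) : f = g :=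
  Over.OverMorphism.ext (AffineSpace.hom_ext ((Over.w f).trans (Over.w g).symm) h)

/-- The point of affine space with given coordinates. -/
def affPt {n : Type u} {W : Over X} (v : n → Γ(W.left, ⊤)) : W ⟶ aff n X :=
  Over.homMk (AffineSpace.homOfVector W.hom v) (AffineSpace.homOfVector_over _ _)

theorem affPt_coord {n : Type u} {W : Over X} (v : n → Γ(W.left, ⊤)) (i : n) :
    (affPt v).left.appTop (AffineSpace.coord X i) = v i :=
  AffineSpace.homOfVector_appTop_coord _ _ _

theorem comp_coord {W W' : Over X} {n : Type u} (h : W' ⟶ W) (f : W ⟶ aff n X) (i : n) :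
    (h ≫ f).left.appTop (AffineSpace.coord X i) = h.left.appTop (f.left.appTop (AffineSpace.coord X i)) := by
  rw [Over.comp_left, Scheme.Hom.comp_appTop, CommRingCat.comp_apply]

/-- Products of affine spaces. -/
def affProd (m n : Type u) (X : Scheme.{u}) : aff m X ⊗ aff n X ≅ aff (m ⊕ n) X where
  hom := affPt (Sum.elim (fun a => (fst (aff m X) (aff n X)).left.appTop (AffineSpace.coord X a))
    (fun b => (snd (aff m X) (aff n X)).left.appTop (AffineSpace.coord X b)))
  inv := lift (affPt (W := aff (m ⊕ n) X) fun a => AffineSpace.coord X (Sum.inl a))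
    (affPt (W := aff (m ⊕ n) X) fun b => AffineSpace.coord X (Sum.inr b))
  hom_inv_id := by
    apply CartesianMonoidalCategory.hom_ext
    · rw [Category.assoc, lift_fst, Category.id_comp]
      refine aff_hom_ext fun a => ?_
      rw [comp_coord, affPt_coord, affPt_coord]
      rfl
    · rw [Category.assoc, lift_snd, Category.id_comp]
      refine aff_hom_ext fun a => ?_
      rw [comp_coord, affPt_coord, affPt_coord]
      rfl
  inv_hom_id := by
    refine aff_hom_ext fun i => ?_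
    rw [comp_coord, affPt_coord]
    cases i with
    | inl a =>
      rw [Sum.elim_inl, ← comp_coord, lift_fst, affPt_coord]
      simp
    | inr b =>
      rw [Sum.elim_inr, ← comp_coord, lift_snd, affPt_coord]
      simp

theorem IsAff.tensor {G H : Over X} (hG : IsAff G) (hH : IsAff H) : IsAff (G ⊗ H) := by
  obtain ⟨m, hm, ⟨a⟩⟩ := hG
  obtain ⟨n, hn, ⟨b⟩⟩ := hH
  exact ⟨m ⊕ n, inferInstance, ⟨(a ⊗ᵢ b) ≪≫ affProd m n X⟩⟩

theorem isAff_Ga : IsAff (Red.Ga X) := by
  refine ⟨PUnit.{u + 1}, inferInstance,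
    ⟨⟨affPt fun _ => Red.gaFn (𝟙 (Red.Ga X)),
      Ga.gaPt (X := aff PUnit.{u + 1} X) (AffineSpace.coord X PUnit.unit), ?_, ?_⟩⟩⟩
  · apply Ga.gaFn_injective
    rw [Ga.gaFn_comp, Ga.gaFn_gaPt, affPt_coord]
  · refine aff_hom_ext fun i => ?_
    rw [comp_coord, affPt_coord, ← Ga.gaFn_comp, Category.comp_id, Ga.gaFn_gaPt]
    simp

theorem isAff_unit : IsAff (𝟙_ (Over X)) := by
  refine ⟨PEmpty.{u + 1}, inferInstance, ⟨⟨affPt fun i => i.elim, toUnit _, ?_, ?_⟩⟩⟩
  · exact toUnit_unique _ _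
  · exact aff_hom_ext fun i => i.elim

theorem IsAff.isAffine [IsAffine X] {G : Over X} (h : IsAff G) : IsAffine G.left := by
  obtain ⟨n, hn, ⟨e⟩⟩ := h
  haveI : IsAffine (aff n X).left := inferInstanceAs (IsAffine (𝔸(n; X)))
  haveI : IsIso e.hom.left := inferInstanceAs (IsIso ((Over.forget X).map e.hom))
  exact IsAffine.of_isIso e.hom.left

/-- An extension of `G_a` with liftable kernel is a product. -/
theorem isAff_of_shortExact [IsAffine X] {G H : Over X} [GrpObj G] [IsCommMonObj G] [GrpObj H]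
    [IsCommMonObj H] (i : G ⟶ H) (p : H ⟶ Red.Ga X) [IsMonHom i] [IsMonHom p] (w : i ≫ p = 1)
    (hex : (CGrpSh.seq Scheme.fppfPrecoverage i p w).ShortExact)
    (hG : AffLift.AffLift (CGrpSh.pts Scheme.fppfPrecoverage G)) (hA : IsAff G) : IsAff H := by
  obtain ⟨s₀, hs₀⟩ := hG _ hex (Iso.refl _) (Red.Ga X) isAff_Ga.isAffine
    (ULift.up (Additive.ofMul (𝟙 (Red.Ga X))))
  let s : Red.Ga X ⟶ H := (s₀ : ULift.{u + 1} (Additive (Red.Ga X ⟶ H))).down.toMul
  have hs : s ≫ p = 𝟙 _ := congrArg (fun z : ULift.{u + 1} (Additive (Red.Ga X ⟶ Red.Ga X)) => z.down.toMul) hs₀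
  let m : G ⊗ Red.Ga X ⟶ H := (fst G (Red.Ga X) ≫ i) * (snd G (Red.Ga X) ≫ s)
  obtain ⟨u₀, hu₀⟩ := exact_sect hex H (ULift.up (Additive.ofMul (𝟙 H / (p ≫ s)))) (by
    apply ULift.ext
    change Additive.ofMul ((𝟙 H / (p ≫ s)) ≫ p) = 0
    rw [GrpObj.div_comp (𝟙 H) (p ≫ s) p, Category.id_comp, Category.assoc, hs, Category.comp_id, div_self']
    rfl)
  let r : H ⟶ G := (u₀ : ULift.{u + 1} (Additive (H ⟶ G))).down.toMul
  have hr : r ≫ i = 𝟙 H / (p ≫ s) :=
    congrArg (fun z : ULift.{u + 1} (Additive (H ⟶ H)) => z.down.toMul) hu₀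
  have hmp : m ≫ p = snd G (Red.Ga X) := by
    simp only [m, MonObj.mul_comp, Category.assoc, w, hs, MonObj.comp_one, _root_.one_mul, Category.comp_id]
  have hinj : ∀ {Z : Over X} {a b : Z ⟶ G}, a ≫ i = b ≫ i → a = b := fun {Z a b} h => by
    have := injective_sect hex Z (a₁ := (ULift.up (Additive.ofMul a) : ULift.{u + 1} (Additive (Z ⟶ G))))
      (a₂ := (ULift.up (Additive.ofMul b) : ULift.{u + 1} (Additive (Z ⟶ G))))
      (ULift.ext _ _ (congrArg Additive.ofMul h))
    exact congrArg (fun z : ULift.{u + 1} (Additive (Z ⟶ G)) => z.down.toMul) this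
  let e : H ≅ G ⊗ Red.Ga X :=
    { hom := lift r p
      inv := m
      hom_inv_id := by
        simp only [m, MonObj.comp_mul, lift_fst_assoc, lift_snd_assoc, hr, div_mul_cancel]
      inv_hom_id := by
        apply CartesianMonoidalCategory.hom_ext
        · rw [Category.assoc, lift_fst, Category.id_comp]
          apply hinj
          rw [Category.assoc, hr, GrpObj.comp_div, Category.comp_id, ← Category.assoc, hmp]
          exact mul_div_cancel_right _ _
        · rw [Category.assoc, lift_snd, Category.id_comp, hmp] }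
  obtain ⟨n, hn, ⟨b⟩⟩ := hA.tensor (isAff_Ga (X := X))
  exact ⟨n, hn, ⟨e ≪≫ b⟩⟩

theorem isAff_of_isZero {G : Over X} [GrpObj G] [IsCommMonObj G]
    (h : IsZero (CGrpSh.pts Scheme.fppfPrecoverage G)) : IsAff G := by
  have hsub : ∀ {Z : Over X} (a b : Z ⟶ G), a = b := fun {Z} a b => by
    have h0 := congr(($(h.eq_of_src (𝟙 (CGrpSh.pts Scheme.fppfPrecoverage G)) 0)).hom.app (op Z)
      (ULift.up (Additive.ofMul a) : ULift.{u + 1} (Additive (Z ⟶ G))))
    have h1 := congr(($(h.eq_of_src (𝟙 (CGrpSh.pts Scheme.fppfPrecoverage G)) 0)).hom.app (op Z)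
      (ULift.up (Additive.ofMul b) : ULift.{u + 1} (Additive (Z ⟶ G))))
    exact congrArg (fun z : ULift.{u + 1} (Additive (Z ⟶ G)) => z.down.toMul) (h0.trans h1.symm)
  obtain ⟨n, hn, ⟨b⟩⟩ := isAff_unit (X := X)
  exact ⟨n, hn, ⟨(⟨toUnit G, η[G], hsub _ _, toUnit_unique _ _⟩ : G ≅ 𝟙_ (Over X)) ≪≫ b⟩⟩

/-- Units on affine spaces over a reduced base come from the base. -/
theorem const_of_isAff [IsReduced X] {W : Over X} (hW : IsAff W) (w : W ⟶ Red.Gm X) :
    ∃ v : 𝟙_ (Over X) ⟶ Red.Gm X, toUnit W ≫ v = w := by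
  obtain ⟨n, hn, ⟨a⟩⟩ := hW
  obtain ⟨v, hvu, hv⟩ := Groth.Agent.S13370.result n X _ (Gm.isUnit_gmFn (a.inv ≫ w))
  refine ⟨Gm.gmPt (X := 𝟙_ (Over X)) hvu.unit, ?_⟩
  rw [← cancel_epi a.inv, comp_toUnit_assoc]
  refine Gm.gmFn_injective ?_
  rw [Gm.gmFn_comp, Gm.gmFn_gmPt]
  exact hv

/-- Invertible modules on affine spaces over a field are trivial. -/
theorem pic_of_isAff {k : Type u} [Field k] {W : Over (Spec (CommRingCat.of k))} (hW : IsAff W)
    (L : W.left.Modules) (hL : PicF.IsInvertible L) : Nonempty (L ≅ Coh.structureModule W.left) := by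
  obtain ⟨n, hn, ⟨a⟩⟩ := hW
  let R : Type u := MvPolynomial n k
  let θ : W.left ≅ ((⊤ : (Spec (CommRingCat.of R)).Opens) : Scheme.{u}) :=
    (Over.forget _).mapIso a ≪≫ AffineSpace.SpecIso n (CommRingCat.of k) ≪≫
      (Scheme.topIso (Spec (CommRingCat.of R))).symm
  obtain ⟨e⟩ := PicGen.OpenUFD.nonempty_iso (⊤ : (Spec (CommRingCat.of R)).Opens)
    ((Scheme.Modules.pullback θ.inv).obj L) (PicLoc.isInvertible_pullback θ.inv hL)
  exact ⟨((Scheme.Modules.pullbackId _).app L).symm ≪≫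
    ((Scheme.Modules.pullbackCongr θ.hom_inv_id).app L).symm ≪≫
    ((Scheme.Modules.pullbackComp θ.hom θ.inv).app L).symm ≪≫
    (Scheme.Modules.pullback θ.hom).mapIso e ≪≫ PicLoc.pullbackStructureIso θ.hom⟩

end Groth.Agent.Lib.GaGmExt.Tower
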