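import Groth.Agent.Lib.GaGmExt.Sect
import Groth.Agent.Lib.GaGmExt.Units

/-!
# Extensions of a commutative group scheme by `G_m`
-/

set_option autoImplicit false

universe u

open CategoryTheory CategoryTheory.Limits AlgebraicGeometry Opposite CategoryTheory.Abelian MonObj
  MonoidalCategory CartesianMonoidalCategory

noncomputable section

namespace Groth.Agent.Lib.GaGmExt.Additive

open Groth.Agent.Lib.GaGmExt.Sect

variable {X : Scheme.{u}} {G : Over X} [GrpObj G] [IsCommMonObj G]
  {I : BigSite.Ab Scheme.fppfPrecoverage X}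

/-- The universal point. -/
abbrev univPt (G : Over X) [GrpObj G] [IsCommMonObj G] :
    (CGrpSh.pts Scheme.fppfPrecoverage G).obj.obj (op G) :=
  ULift.up (Additive.ofMul (𝟙 G))

theorem map_comp_apply' {U V W : Over X} (f : U ⟶ V) (g : V ⟶ W) (i : I.obj.obj (op W)) :
    I.obj.map f.op (I.obj.map g.op i) = I.obj.map (f ≫ g).op i :=
  (congr($(I.obj.map_comp g.op f.op) i)).symm

/-- The morphism out of the sheaf of points given by an additive section. -/
def ofAdditive (b : I.obj.obj (op G))
    (hb : I.obj.map (fst G G * snd G G).op b =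
      I.obj.map (fst G G).op b + I.obj.map (snd G G).op b) :
    CGrpSh.pts Scheme.fppfPrecoverage G ⟶ I :=
  ⟨{ app := fun U => AddCommGrpCat.ofHom
      (AddMonoidHom.mk' (fun x : ULift.{u + 1} (Additive (U.unop ⟶ G)) =>
        I.obj.map x.down.toMul.op b) fun x y => by
        have h := congrArg (I.obj.map (lift x.down.toMul y.down.toMul).op) hb
        rw [map_add, map_comp_apply', map_comp_apply', map_comp_apply', MonObj.comp_mul,
          lift_fst, lift_snd] at h
        exact h)
     naturality := fun U V f => AddCommGrpCat.ext fun x => by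
       exact (map_comp_apply' f.unop x.down.toMul b).symm }⟩

theorem comp_eq {Q : BigSite.Ab Scheme.fppfPrecoverage X} (g : I ⟶ Q)
    (φ : CGrpSh.pts Scheme.fppfPrecoverage G ⟶ Q) (b : I.obj.obj (op G))
    (hb : I.obj.map (fst G G * snd G G).op b =
      I.obj.map (fst G G).op b + I.obj.map (snd G G).op b)
    (hg : g.hom.app (op G) b = φ.hom.app (op G) (univPt G)) :
    ofAdditive b hb ≫ g = φ := by
  apply Sheaf.hom_ext
  refine NatTrans.ext (funext fun U => AddCommGrpCat.ext fun x => ?_)
  change g.hom.app U (I.obj.map x.down.toMul.op b) = φ.hom.app U x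
  refine (NatTrans.naturality_apply g.hom x.down.toMul.op b).trans ?_
  rw [hg]
  refine (NatTrans.naturality_apply φ.hom x.down.toMul.op (univPt G)).symm.trans ?_
  refine congrArg (φ.hom.app U) (ULift.ext _ _ ?_)
  change Additive.ofMul (x.down.toMul ≫ 𝟙 G) = x.down
  rw [Category.comp_id]
  rfl

/-- Vanishing of `Ext^1(G, G_m)` from liftability and constancy of units on `G × G`. -/
theorem subsingleton_ext
    (hlift : ∀ {S : ShortComplex (BigSite.Ab Scheme.fppfPrecoverage X)} (_ : S.ShortExact)
      (_ : S.X₁ ≅ CGrpSh.pts Scheme.fppfPrecoverage (Red.Gm X)),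
      Function.Surjective (S.g.hom.app (op G)))
    (hconst : ∀ w : G ⊗ G ⟶ Red.Gm X, ∃ v : 𝟙_ (Over X) ⟶ Red.Gm X, toUnit _ ≫ v = w) :
    Subsingleton (CGrpSh.ExtS Scheme.fppfPrecoverage G (Red.Gm X) 1) := by
  let B := CGrpSh.pts Scheme.fppfPrecoverage (Red.Gm X)
  let S : ShortComplex (BigSite.Ab Scheme.fppfPrecoverage X) :=
    ShortComplex.mk (Injective.ι B) (cokernel.π (Injective.ι B)) (cokernel.condition _)
  have hS : S.ShortExact :=
    { exact := ShortComplex.exact_of_g_is_cokernel _ (cokernelIsCokernel _)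
      mono_f := inferInstanceAs (Mono (Injective.ι B))
      epi_g := inferInstanceAs (Epi (cokernel.π (Injective.ι B))) }
  have : Injective S.X₂ := inferInstanceAs (Injective (Injective.under B))
  refine subsingleton_of_forall_eq 0 fun x => ?_
  obtain ⟨y, hy⟩ := Ext.covariant_sequence_exact₁ _ hS x (Ext.eq_zero_of_injective _) (zero_add 1)
  obtain ⟨φ, rfl⟩ := (Ext.mk₀_bijective _ _).2 y
  let q : S.X₃.obj.obj (op G) := φ.hom.app (op G) (univPt G)
  obtain ⟨b, hb⟩ := hlift hS (Iso.refl _) q
  let m : G ⊗ G ⟶ G := fst G G * snd G G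
  let d := S.X₂.obj.map m.op b - (S.X₂.obj.map (fst G G).op b + S.X₂.obj.map (snd G G).op b)
  have hd : S.g.hom.app (op (G ⊗ G)) d = 0 := by
    simp only [d, map_sub, map_add]
    rw [NatTrans.naturality_apply, NatTrans.naturality_apply, NatTrans.naturality_apply]
    change S.X₃.obj.map m.op _ - _ = 0
    rw [hb, ← NatTrans.naturality_apply, ← NatTrans.naturality_apply, ← NatTrans.naturality_apply,
      ← map_add, ← map_sub]
    refine (congrArg (φ.hom.app (op (G ⊗ G))) ?_).trans (map_zero _)
    rw [sub_eq_zero]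
    apply ULift.ext
    change Additive.ofMul (m ≫ 𝟙 G) = Additive.ofMul (fst G G ≫ 𝟙 G) + Additive.ofMul (snd G G ≫ 𝟙 G)
    rw [Category.comp_id, Category.comp_id, Category.comp_id]
    rfl
  obtain ⟨w, hw⟩ := exact_sect hS (G ⊗ G) d hd
  obtain ⟨v, hv⟩ := hconst w.down.toMul
  let b₀ : S.X₂.obj.obj (op (𝟙_ (Over X))) :=
    S.f.hom.app (op (𝟙_ (Over X))) (ULift.up (Additive.ofMul v))
  have hd' : d = S.X₂.obj.map (toUnit (G ⊗ G)).op b₀ := by
    rw [← hw, ← NatTrans.naturality_apply]
    refine congrArg (S.f.hom.app (op (G ⊗ G))) (ULift.ext _ _ ?_)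
    exact congrArg Additive.ofMul hv.symm
  let b' := b + S.X₂.obj.map (toUnit G).op b₀
  have hb' : S.X₂.obj.map m.op b' =
      S.X₂.obj.map (fst G G).op b' + S.X₂.obj.map (snd G G).op b' := by
    simp only [b', map_add, map_comp_apply', comp_toUnit]
    rw [← hd']
    simp only [d]
    abel
  have hg : S.g.hom.app (op G) b' = q := by
    simp only [b', map_add, hb]
    rw [NatTrans.naturality_apply]
    have : S.g.hom.app (op (𝟙_ (Over X))) b₀ = 0 :=
      congr(($S.zero).hom.app (op (𝟙_ (Over X))) (ULift.up (Additive.ofMul v)))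
    rw [this, map_zero, add_zero]
  rw [← hy, ← comp_eq S.g φ b' hb' hg, ← Ext.mk₀_comp_mk₀,
    Ext.comp_assoc _ _ _ (add_zero 0) (zero_add 1) (by omega), hS.comp_extClass, Ext.comp_zero]

end Groth.Agent.Lib.GaGmExt.Additive
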