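import Groth.Agent.Lib.GaGmExt.Sect
import Groth.Agent.Lib.FppfEt.LocAcyclic
import Groth.Agent.Lib.FppfEt.Finite
import Groth.Agent.Lib.PHS.Ga

/-!
# Lifting sections over affine objects along quotients by successive extensions of `G_a`
-/

set_option autoImplicit false
set_option linter.style.haveILetI false

universe u

open CategoryTheory CategoryTheory.Limits AlgebraicGeometry Opposite MonObj MonoidalCategory CartesianMonoidalCategory
open scoped TensorProduct

noncomputable section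

namespace Groth.Agent.Lib.GaGmExt.AffLift

open Groth.Agent.Lib.GaGmExt.Sect

variable {X : Scheme.{u}}

/-- Sections over affine objects lift along quotients by `B`. -/
def AffLift (B : BigSite.Ab Scheme.fppfPrecoverage X) : Prop :=
  ∀ (S : ShortComplex (BigSite.Ab Scheme.fppfPrecoverage X)), S.ShortExact → (S.X₁ ≅ B) →
    ∀ T : Over X, IsAffine T.left → Function.Surjective (S.g.hom.app (op T))

theorem map_comp_apply {F : BigSite.Ab Scheme.fppfPrecoverage X} {U V W : Over X} (f : U ⟶ V) (g : V ⟶ W)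
    (i : F.obj.obj (op W)) : F.obj.map f.op (F.obj.map g.op i) = F.obj.map (f ≫ g).op i :=
  (congr($(F.obj.map_comp g.op f.op) i)).symm

theorem affLift_of_isZero {B : BigSite.Ab Scheme.fppfPrecoverage X} (hB : IsZero B) : AffLift B := by
  intro S hS e T _ q
  have := hS.mono_f; have := hS.epi_g
  have : Mono S.g := hS.exact.mono_g ((hB.of_iso e).eq_of_src _ _)
  have : IsIso S.g := isIso_of_mono_of_epi S.g
  exact ⟨(inv S.g).hom.app (op T) q, congr(($(IsIso.inv_hom_id S.g)).hom.app (op T) q)⟩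

/-- Stability under extensions. -/
theorem affLift_ext {E : ShortComplex (BigSite.Ab Scheme.fppfPrecoverage X)} (hE : E.ShortExact)
    (h₁ : AffLift E.X₁) (h₃ : AffLift E.X₃) : AffLift E.X₂ := by
  intro S hS e T hT q
  have := hS.mono_f; have := hS.epi_g; have := hE.mono_f; have := hE.epi_g
  let f : E.X₂ ⟶ S.X₂ := e.inv ≫ S.f
  have hf : f ≫ S.g = 0 := by rw [Category.assoc, S.zero, comp_zero]
  let inl : S.X₂ ⟶ pushout f E.g := pushout.inl f E.g
  let inr : E.X₃ ⟶ pushout f E.g := pushout.inr f E.g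
  let r : pushout f E.g ⟶ S.X₃ := pushout.desc S.g 0 (by rw [hf, comp_zero])
  have hr : inl ≫ r = S.g := pushout.inl_desc _ _ _
  have hr' : inr ≫ r = 0 := pushout.inr_desc _ _ _
  haveI : Mono f := inferInstanceAs (Mono (e.inv ≫ S.f))
  haveI : Mono inr := inferInstanceAs (Mono (pushout.inr f E.g))
  haveI : Epi inl := inferInstanceAs (Epi (pushout.inl f E.g))
  haveI : Epi r := epi_of_epi_fac hr
  -- the quotient by `E.X₁`
  let S₁ := ShortComplex.mk (E.f ≫ f) inl (by
    rw [Category.assoc, pushout.condition, reassoc_of% E.zero, zero_comp])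
  have hS₁ : S₁.ShortExact :=
    { exact := by
        refine ShortComplex.exact_of_f_is_kernel _ (KernelFork.IsLimit.ofι' _ _ fun {W} k hk => ?_)
        have hkg : k ≫ S.g = 0 := by rw [← hr, ← Category.assoc, hk, zero_comp]
        let y := hS.exact.lift k hkg
        have hy : y ≫ S.f = k := hS.exact.lift_f k hkg
        have hy' : (y ≫ e.hom) ≫ f = k := by
          simp only [f, Category.assoc, Iso.hom_inv_id_assoc, hy]
        have h0 : ((y ≫ e.hom) ≫ E.g) ≫ inr = 0 := by
          rw [Category.assoc]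
          change (y ≫ e.hom) ≫ E.g ≫ pushout.inr f E.g = 0
          rw [← pushout.condition, ← Category.assoc, hy']
          exact hk
        have h1 : (y ≫ e.hom) ≫ E.g = 0 := by rw [← cancel_mono inr, h0, zero_comp]
        exact ⟨hE.exact.lift _ h1, by
          change hE.exact.lift _ h1 ≫ E.f ≫ f = k
          rw [← Category.assoc, hE.exact.lift_f, hy']⟩
      mono_f := inferInstanceAs (Mono (E.f ≫ f))
      epi_g := inferInstanceAs (Epi inl) }
  -- the quotient by `E.X₃`
  let S₂ := ShortComplex.mk inr r hr'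
  have hS₂ : S₂.ShortExact :=
    { exact := by
        refine ShortComplex.exact_of_g_is_cokernel _ (CokernelCofork.IsColimit.ofπ' _ _ fun {W} k hk => ?_)
        have h0 : S.f ≫ inl ≫ k = 0 := by
          calc S.f ≫ inl ≫ k = e.hom ≫ (f ≫ pushout.inl f E.g) ≫ k := by
                simp only [f, inl, Category.assoc, Iso.hom_inv_id_assoc]
            _ = e.hom ≫ E.g ≫ inr ≫ k := by rw [pushout.condition, Category.assoc]
            _ = 0 := by rw [hk, comp_zero, comp_zero]
        refine ⟨hS.exact.desc (inl ≫ k) h0, ?_⟩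
        change r ≫ hS.exact.desc (inl ≫ k) h0 = k
        apply pushout.hom_ext
        · change inl ≫ r ≫ _ = inl ≫ k
          rw [← Category.assoc, hr, hS.exact.g_desc]
        · change inr ≫ r ≫ _ = inr ≫ k
          rw [← Category.assoc, hr', zero_comp, hk]
      mono_f := inferInstanceAs (Mono inr)
      epi_g := inferInstanceAs (Epi r) }
  obtain ⟨m, hm⟩ := h₃ S₂ hS₂ (Iso.refl _) T hT q
  obtain ⟨i, hi⟩ := h₁ S₁ hS₁ (Iso.refl _) T hT m
  refine ⟨i, ?_⟩
  rw [← hr]
  change r.hom.app (op T) (inl.hom.app (op T) i) = q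
  exact (congrArg (r.hom.app (op T)) hi).trans hm

section Ga

open Groth.Agent.Lib.PHS.Basic Groth.Agent.Lib.PHS.Ga

/-- An fppf-locally liftable section lifts on one affine covering. -/
theorem exists_affine_lift {S : ShortComplex (BigSite.Ab Scheme.fppfPrecoverage X)}
    (hS : S.ShortExact) (T : Over X) [IsAffine T.left] (q : S.X₃.obj.obj (op T)) :
    ∃ (V : Over X) (v : V ⟶ T), IsAffine V.left ∧ Flat v.left ∧
      LocallyOfFinitePresentation v.left ∧ Surjective v.left ∧
      ∃ i : S.X₂.obj.obj (op V), S.g.hom.app (op V) i = S.X₃.obj.map v.op q := by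
  classical
  have := (Sheaf.isLocallySurjective_iff_epi' _ S.g).2 hS.epi_g
  have hmem := Presheaf.imageSieve_mem (QuotSh.J Scheme.fppfPrecoverage X) S.g.hom q
  rw [GrothendieckTopology.mem_over_iff] at hmem
  obtain ⟨P, hP, hle⟩ := (Precoverage.mem_toGrothendieck_iff_of_isStableUnderComposition
    (J := Scheme.fppfPrecoverage)).1 hmem
  obtain ⟨J₀, W, w, rfl⟩ := P.exists_eq_ofArrows
  obtain ⟨hsurj, hprop⟩ := (Scheme.ofArrows_mem_precoverage_iff _).1 hP
  have hpt : ∀ t : T.left, ∃ (j : J₀) (O : (W j).Opens), IsAffineOpen O ∧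
      t ∈ Set.range (O.ι ≫ w j) := by
    intro t
    obtain ⟨j, z, hz⟩ := hsurj t
    obtain ⟨O, hO, hzO, -⟩ := exists_isAffineOpen_mem_and_subset (x := z)
      (U := (⊤ : (W j).Opens)) trivial
    exact ⟨j, O, hO, ⟨z, hzO⟩, by rw [Scheme.Hom.comp_apply]; exact hz⟩
  choose j O hO htO using hpt
  have hopen : ∀ t, IsOpen (Set.range ((O t).ι ≫ w (j t))) := fun t => by
    have : Flat (w (j t)) := (hprop (j t)).1
    have : LocallyOfFinitePresentation (w (j t)) := (hprop (j t)).2
    exact ((O t).ι ≫ w (j t)).isOpenMap.isOpen_range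
  obtain ⟨K, hK⟩ := isCompact_univ.elim_finite_subcover
    (fun t => Set.range ((O t).ι ≫ w (j t))) hopen fun t _ => Set.mem_iUnion.2 ⟨t, htO t⟩
  let Z : Fin K.card → Scheme.{u} := fun a => (O (K.equivFin.symm a).1 : Scheme.{u})
  haveI : ∀ a, IsAffine (Z a) := fun a => hO _
  let za : ∀ a, Z a ⟶ T.left := fun a => (O (K.equivFin.symm a).1).ι ≫ w (j (K.equivFin.symm a).1)
  haveI : ∀ a, Flat (za a) := fun a =>
    haveI : Flat (w (j (K.equivFin.symm a).1)) := (hprop _).1
    inferInstanceAs (Flat (_ ≫ _))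
  haveI : ∀ a, LocallyOfFinitePresentation (za a) := fun a =>
    haveI : LocallyOfFinitePresentation (w (j (K.equivFin.symm a).1)) := (hprop _).2
    inferInstanceAs (LocallyOfFinitePresentation (_ ≫ _))
  let p : ∐ Z ⟶ T.left := Sigma.desc za
  have hp1 : Flat p := inferInstanceAs (Flat (Sigma.desc _))
  have hp2 : LocallyOfFinitePresentation p := IsZariskiLocalAtSource.sigmaDesc (fun _ => inferInstance)
  have hp3 : Surjective p := ⟨fun t => by
    obtain ⟨t', ht', z, hz⟩ := Set.mem_iUnion₂.1 (hK (Set.mem_univ t))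
    obtain ⟨a, ha⟩ : ∃ a, (K.equivFin.symm a).1 = t' :=
      ⟨K.equivFin ⟨t', ht'⟩, congrArg Subtype.val (K.equivFin.symm_apply_apply _)⟩
    have key : ∀ t'', t'' = t' → t ∈ Set.range ((O t'').ι ≫ w (j t'')) := by
      rintro _ rfl
      exact ⟨z, hz⟩
    have : t ∈ Set.range (za a) := key _ ha
    obtain ⟨z', hz'⟩ := this
    exact ⟨Sigma.ι Z a z', by rw [← Scheme.Hom.comp_apply, Sigma.ι_desc]; exact hz'⟩⟩
  let V : Over X := Over.mk (p ≫ T.hom)
  let v : V ⟶ T := Over.homMk p rfl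
  refine ⟨V, v, inferInstanceAs (IsAffine (∐ Z)), hp1, hp2, hp3, ?_⟩
  let Za : Fin K.card → Over X := fun a => Over.mk (Sigma.ι Z a ≫ V.hom)
  let oa : ∀ a, Za a ⟶ V := fun a => Over.homMk (Sigma.ι Z a) rfl
  have hlift : ∀ a, ∃ i : S.X₂.obj.obj (op (Za a)),
      S.g.hom.app (op (Za a)) i = S.X₃.obj.map (oa a ≫ v).op q := by
    intro a
    obtain ⟨i₀, hi₀⟩ := (Sieve.overEquiv_iff _ (w (j (K.equivFin.symm a).1))).1
      (hle _ _ ⟨j (K.equivFin.symm a).1⟩)
    let b : Za a ⟶ Over.mk (w (j (K.equivFin.symm a).1) ≫ T.hom) :=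
      Over.homMk (O (K.equivFin.symm a).1).ι (by
        show _ ≫ _ ≫ T.hom = Sigma.ι Z a ≫ p ≫ T.hom
        rw [Sigma.ι_desc_assoc]
        exact (Category.assoc _ _ _).symm)
    refine ⟨S.X₂.obj.map b.op i₀, ?_⟩
    rw [NatTrans.naturality_apply]
    refine (congrArg (S.X₃.obj.map b.op) hi₀).trans ?_
    rw [map_comp_apply]
    refine congrArg (fun f : Za a ⟶ T => S.X₃.obj.map f.op q) (Over.OverMorphism.ext ?_)
    exact (Sigma.ι_desc za a).symm
  choose i hi using hlift
  have hcov : ∀ x : (∐ Z : Scheme.{u}), ∃ (a : Fin K.card) (d : Z a), Sigma.ι Z a d = x := fun x => by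
    obtain ⟨a, d, hd⟩ := (sigmaOpenCover Z).exists_eq x
    exact ⟨a, d, hd⟩
  obtain ⟨s, hs⟩ := FppfEt.Split.exists_glue Scheme.fppfPrecoverage
    BigSite.etalePrecoverage_le_fppfPrecoverage S.X₂ Za oa
    (fun a => inferInstanceAs (IsOpenImmersion (Sigma.ι Z a))) hcov
    (fun a b d d' h => by
      by_contra hne
      exact Set.disjoint_left.1
        (TopologicalSpace.Opens.coe_disjoint.2 (disjoint_opensRange_sigmaι Z a b hne))
        (show Sigma.ι Z a d ∈ _ from ⟨d, rfl⟩) ⟨d', h.symm⟩) i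
  refine ⟨s, ?_⟩
  refine EtGerm.Univ.sections_ext Scheme.fppfPrecoverage BigSite.etalePrecoverage_le_fppfPrecoverage
    S.X₃ (fun a : ULift.{u + 1} (Fin K.card) => Za a.down) (fun a => oa a.down)
    (fun a => inferInstanceAs (Etale (Sigma.ι Z a.down))) (fun x => by
      obtain ⟨a, d, hd⟩ := hcov x; exact ⟨⟨a⟩, d, hd⟩) _ _ fun a => ?_
  rw [← NatTrans.naturality_apply, hs, hi, map_comp_apply]

variable {A B : Type u} [CommRing A] [CommRing B] [Algebra A B] [Module.FaithfullyFlat A B]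
  [Algebra.FinitePresentation A B]

theorem lift_spec {S : ShortComplex (BigSite.Ab Scheme.fppfPrecoverage X)} (hS : S.ShortExact)
    (e : S.X₁ ≅ CGrpSh.pts Scheme.fppfPrecoverage (Red.Ga X)) (j : Spec (CommRingCat.of A) ⟶ X)
    (q₀ : S.X₃.obj.obj (op (Over.mk j))) (v : P1 B j ⟶ Over.mk j)
    (hv : v.left = Spec.map (CommRingCat.ofHom (algebraMap A B)))
    (i : S.X₂.obj.obj (op (P1 B j))) (hi : S.g.hom.app (op (P1 B j)) i = S.X₃.obj.map v.op q₀) :
    ∃ s : S.X₂.obj.obj (op (Over.mk j)), S.g.hom.app (op (Over.mk j)) s = q₀ := by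
  have h12 : pr₁ B j ≫ v = pr₂ B j ≫ v := by
    refine Over.OverMorphism.ext ?_
    rw [Over.comp_left, Over.comp_left, hv, ov_left, ov_left, ← Spec.map_comp, ← Spec.map_comp,
      ← CommRingCat.ofHom_comp, ← CommRingCat.ofHom_comp]
    congr 2
    exact (Algebra.TensorProduct.includeLeft.comp_algebraMap).trans
      (Algebra.TensorProduct.includeRight.comp_algebraMap).symm
  let δ := S.X₂.obj.map (pr₁ B j).op i - S.X₂.obj.map (pr₂ B j).op i
  have hδ : S.g.hom.app (op (P2 B j)) δ = 0 := by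
    simp only [δ, map_sub]
    rw [NatTrans.naturality_apply, NatTrans.naturality_apply, sub_eq_zero]
    refine (congrArg (S.X₃.obj.map (pr₁ B j).op) hi).trans
      (Eq.trans ?_ (congrArg (S.X₃.obj.map (pr₂ B j).op) hi).symm)
    rw [map_comp_apply, map_comp_apply, h12]
  let F : ∀ Z : Over X, ULift.{u + 1} (Additive (Z ⟶ Red.Ga X)) →+ S.X₂.obj.obj (op Z) :=
    fun Z => ((e.inv ≫ S.f).hom.app (op Z)).hom
  have hFn : ∀ {Z Z' : Over X} (a : Z' ⟶ Z) (x : Z ⟶ Red.Ga X),
      S.X₂.obj.map a.op (F Z (ULift.up (Additive.ofMul x))) = F Z' (ULift.up (Additive.ofMul (a ≫ x))) :=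
    fun a x => (NatTrans.naturality_apply (e.inv ≫ S.f).hom a.op (ULift.up (Additive.ofMul x))).symm
  have hFinj : ∀ Z, Function.Injective (F Z) := fun Z a b h =>
    (congr(($(e.inv_hom_id)).hom.app (op Z) a)).symm.trans
      ((congrArg (e.hom.hom.app (op Z)) (injective_sect hS Z h)).trans
        congr(($(e.inv_hom_id)).hom.app (op Z) b))
  obtain ⟨w₁, hw₁⟩ := exact_sect hS (P2 B j) δ hδ
  let w : P2 B j ⟶ Red.Ga X := ((e.hom.hom.app (op (P2 B j)) w₁) :
    ULift.{u + 1} (Additive (P2 B j ⟶ Red.Ga X))).down.toMul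
  have hw : F (P2 B j) (ULift.up (Additive.ofMul w)) = δ := by
    refine Eq.trans ?_ hw₁
    exact congrArg (S.f.hom.app (op (P2 B j))) congr(($(e.hom_inv_id)).hom.app (op (P2 B j)) w₁)
  have hd : WittU.Amitsur.d1 A B (gfn w) = 0 := by
    open EtH1Gm.RingDesc in
    let D := fun a b : B →ₐ[A] (B ⊗[A] B) ⊗[A] B => ov j (d a b)
    open EtH1Gm.RingDesc in
    have key : ∀ a b : B →ₐ[A] (B ⊗[A] B) ⊗[A] B,
        F (P3 B j) (ULift.up (Additive.ofMul (ov j (d a b) ≫ w))) =
          S.X₂.obj.map (ov j a).op i - S.X₂.obj.map (ov j b).op i := by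
      intro a b
      rw [← hFn, hw]
      simp only [δ, map_sub]
      rw [map_comp_apply, map_comp_apply, ov_comp, ov_comp,
        show (d a b).comp Algebra.TensorProduct.includeLeft = a from
          Algebra.TensorProduct.lift_comp_includeLeft _ _ fun _ _ => .all _ _,
        show (d a b).comp Algebra.TensorProduct.includeRight = b from
          Algebra.TensorProduct.lift_comp_includeRight _ _ fun _ _ => .all _ _]
    open EtH1Gm.RingDesc in
    have h : (ov j (d (j₂ A B) (j₃ A B)) ≫ w) * (ov j (d (j₁ A B) (j₂ A B)) ≫ w) =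
        ov j (d (j₁ A B) (j₃ A B)) ≫ w := by
      apply Additive.ofMul.injective
      apply ULift.up_injective
      apply hFinj
      refine (map_add (F (P3 B j)) (ULift.up (Additive.ofMul _)) (ULift.up (Additive.ofMul _))).trans ?_
      refine (congrArg₂ (· + ·) (key (j₂ A B) (j₃ A B)) (key (j₁ A B) (j₂ A B))).trans
        (Eq.trans ?_ (key (j₁ A B) (j₃ A B)).symm)
      abel
    have h' := congrArg gfn h
    rw [gfn_mul, gfn_ov, gfn_ov, gfn_ov] at h'
    rw [d1_eq, ← h', sub_add_eq_add_sub, sub_self, map_zero]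
  obtain ⟨c, hc⟩ := WittU.Amitsur.exists_of_cocycle (A := A) (C := B) hd
  obtain ⟨x, hx⟩ := exists_gfn (S := X) j c
  let i' := i - F (P1 B j) (ULift.up (Additive.ofMul x))
  have heq : S.X₂.obj.map (pr₁ B j).op i' = S.X₂.obj.map (pr₂ B j).op i' := by
    simp only [i', map_sub]
    rw [hFn, hFn, sub_eq_sub_iff_sub_eq_sub]
    change δ = _
    rw [← hw, ← map_sub]
    refine congrArg (F (P2 B j)) (ULift.ext _ _ ?_)
    change Additive.ofMul w = Additive.ofMul (pr₁ B j ≫ x) - Additive.ofMul (pr₂ B j ≫ x)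
    apply Additive.toMul.injective
    change w = (pr₁ B j ≫ x) / (pr₂ B j ≫ x)
    rw [eq_div_iff_mul_eq']
    refine gfn_injective ?_
    rw [gfn_mul, gfn_ov, gfn_ov, hx, ← hc]
    change (c ⊗ₜ[A] (1 : B) - 1 ⊗ₜ[A] c) + (1 : B) ⊗ₜ[A] c = c ⊗ₜ[A] 1
    abel
  have hflat : Flat v.left := by
    rw [hv]; exact HasRingHomProperty.Spec_iff.2 (RingHom.flat_algebraMap_iff.2 inferInstance)
  have hlfp : LocallyOfFinitePresentation v.left := by
    rw [hv]; exact HasRingHomProperty.Spec_iff.2 (RingHom.finitePresentation_algebraMap.2 inferInstance)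
  have hsurj : Surjective v.left := by
    rw [hv]; exact ⟨PrimeSpectrum.comap_surjective_of_faithfullyFlat⟩
  have hmemJ : Sieve.ofArrows (fun _ : PUnit.{u + 2} => P1 B j) (fun _ => v) ∈
      QuotSh.J Scheme.fppfPrecoverage X (Over.mk j) := by
    rw [GrothendieckTopology.mem_over_iff, Sieve.overEquiv_ofArrows]
    refine Precoverage.generate_mem_toGrothendieck
      ((Scheme.ofArrows_mem_precoverage_iff _).2 ⟨fun t => ?_, fun _ => ⟨hflat, hlfp⟩⟩)
    obtain ⟨z, hz⟩ := hsurj.surj t
    exact ⟨PUnit.unit, z, hz⟩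
  have hsh : ∀ G : BigSite.Ab Scheme.fppfPrecoverage X,
      (Presieve.ofArrows (fun _ : PUnit.{u + 2} => P1 B j) fun _ => v).IsSheafFor
        (G.obj ⋙ forget AddCommGrpCat.{u + 1}) := fun G =>
    (Presieve.isSheafFor_iff_generate _).2
      (((isSheaf_iff_isSheaf_of_type _ _).1 (Presheaf.isSheaf_comp_of_isSheaf _ G.obj
        (forget AddCommGrpCat.{u + 1}) G.property)) _ hmemJ)
  have hcompat : Presieve.Arrows.Compatible (S.X₂.obj ⋙ forget AddCommGrpCat.{u + 1})
      (fun _ : PUnit.{u + 2} => v) (fun _ => i') := by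
    intro _ _ Z g₁ g₂ hg
    have hl : g₁.left ≫ PHS.Basic.q A B = g₂.left ≫ PHS.Basic.q A B := by
      have := congrArg CommaMorphism.left hg
      change g₁.left ≫ v.left = g₂.left ≫ v.left at this
      rwa [hv] at this
    let l := pullback.lift g₁.left g₂.left hl ≫ (pullbackSpecIso A B B).hom
    have e₁ : l ≫ (pr₁ B j).left = g₁.left := by
      rw [Category.assoc, ov_left, ← pullback_fst_eq, pullback.lift_fst]
    have e₂ : l ≫ (pr₂ B j).left = g₂.left := by
      rw [Category.assoc, ov_left, ← pullback_snd_eq, pullback.lift_snd]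
    let z : Z ⟶ P2 B j := Over.homMk l (by
      rw [← Over.w (pr₁ B j), ← Category.assoc, e₁]
      exact Over.w g₁)
    have f₁ : g₁ = z ≫ pr₁ B j := Over.OverMorphism.ext e₁.symm
    have f₂ : g₂ = z ≫ pr₂ B j := Over.OverMorphism.ext e₂.symm
    change S.X₂.obj.map g₁.op i' = S.X₂.obj.map g₂.op i'
    rw [f₁, f₂, ← map_comp_apply, ← map_comp_apply, heq]
  obtain ⟨s, hs, -⟩ := (Presieve.isSheafFor_arrows_iff _ _).1 (hsh S.X₂) _ hcompat
  refine ⟨s, (Presieve.IsSeparatedFor.ext (hsh S.X₃).isSeparatedFor ?_)⟩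
  rintro Y f ⟨⟩
  change S.X₃.obj.map v.op _ = S.X₃.obj.map v.op _
  rw [← NatTrans.naturality_apply]
  refine (congrArg (S.g.hom.app (op (P1 B j))) (hs PUnit.unit)).trans ?_
  simp only [i', map_sub, hi, sub_eq_self]
  exact congr(($(S.zero)).hom.app (op (P1 B j)) ((e.inv.hom.app (op (P1 B j)))
    (ULift.up (Additive.ofMul x))))

end Ga

/-- The additive group satisfies affine lifting. -/
theorem affLift_Ga : AffLift (CGrpSh.pts Scheme.fppfPrecoverage (Red.Ga X)) := by
  intro S hS e T hT q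
  obtain ⟨V, v, hV, hv1, hv2, hv3, i, hi⟩ := exists_affine_lift hS T q
  let A : Type u := Γ(T.left, ⊤)
  let B : Type u := Γ(V.left, ⊤)
  algebraize [v.left.appTop.hom]
  have hq : Spec.map v.left.appTop = V.left.isoSpec.inv ≫ v.left ≫ T.left.isoSpec.hom := by
    rw [← Scheme.isoSpec_hom_naturality v.left, Iso.inv_hom_id_assoc]
  have hflat : Flat (Spec.map v.left.appTop) := by rw [hq]; infer_instance
  have hsurj : Surjective (Spec.map v.left.appTop) := by rw [hq]; infer_instance
  have hlfp : LocallyOfFinitePresentation (Spec.map v.left.appTop) := by rw [hq]; infer_instance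
  haveI : Module.FaithfullyFlat A B :=
    (RingHom.FaithfullyFlat.iff_flat_and_comap_surjective (f := v.left.appTop.hom)).2
      ⟨HasRingHomProperty.Spec_iff.1 hflat, hsurj.1⟩
  haveI : Algebra.FinitePresentation A B :=
    (HasRingHomProperty.Spec_iff (P := @LocallyOfFinitePresentation)).1 hlfp
  let j : Spec (CommRingCat.of A) ⟶ X := T.left.isoSpec.inv ≫ T.hom
  let a : Over.mk j ≅ T := Over.isoMk T.left.isoSpec.symm rfl
  let b : PHS.Basic.P1 B j ⟶ V := Over.homMk V.left.isoSpec.inv (by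
    change _ = Spec.map v.left.appTop ≫ T.left.isoSpec.inv ≫ T.hom
    rw [hq, Category.assoc, Category.assoc, Iso.hom_inv_id_assoc, Over.w v])
  let v' : PHS.Basic.P1 B j ⟶ Over.mk j := Over.homMk (Spec.map v.left.appTop) rfl
  obtain ⟨s, hs⟩ := lift_spec (A := A) (B := B) hS e j (S.X₃.obj.map a.hom.op q) v' rfl
    (S.X₂.obj.map b.op i) (by
      rw [NatTrans.naturality_apply]
      refine (congrArg (S.X₃.obj.map b.op) hi).trans ?_
      rw [map_comp_apply, map_comp_apply]
      refine congrArg (fun f : PHS.Basic.P1 B j ⟶ T => S.X₃.obj.map f.op q) (Over.OverMorphism.ext ?_)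
      change V.left.isoSpec.inv ≫ v.left = Spec.map v.left.appTop ≫ T.left.isoSpec.inv
      rw [hq]
      simp)
  refine ⟨S.X₂.obj.map a.inv.op s, ?_⟩
  rw [NatTrans.naturality_apply]
  refine (congrArg (S.X₃.obj.map a.inv.op) hs).trans ?_
  rw [map_comp_apply, Iso.inv_hom_id, op_id, CategoryTheory.Functor.map_id]
  rfl

end Groth.Agent.Lib.GaGmExt.AffLift
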