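import Groth.Prelude.Def_CGrpSh2
import Groth.Prelude.Def_EtDlF
import Groth.Agent.Lib.BigEt.Basic
import Groth.Agent.Lib.FppfEt.Descent
import Groth.Agent.Lib.FppfGm.Acyclic
import Groth.Agent.Lib.FppfGm.Coh
import Groth.Agent.Lib.RedPts.Gm
import Groth.Agent.S0236
import Mathlib.CategoryTheory.Sites.SheafCohomology.Basic

/-!
# Sections on the big fppf site and vanishing of `H^1(G_m)`
-/

set_option autoImplicit false

universe u

open CategoryTheory CategoryTheory.Limits AlgebraicGeometry Opposite CategoryTheory.Abelian MonObj MonoidalCategory CartesianMonoidalCategory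
open Groth.Agent.Lib.BigEt.Basic

noncomputable section

namespace Groth.Agent.Lib.GaGmExt.Sect

variable {X Y : Scheme.{u}}

/-- Global sections are maps from the constant sheaf. -/
def el (G : BigSite.Ab Scheme.fppfPrecoverage X) :
    ((constantSheaf (QuotSh.J Scheme.fppfPrecoverage X) AddCommGrpCat.{u + 1}).obj
      (AddCommGrpCat.of (ULift.{u + 1} ℤ)) ⟶ G) ≃+ G.obj.obj (op (Over.mk (𝟙 X))) :=
  ((constantSheafAdj (QuotSh.J Scheme.fppfPrecoverage X) AddCommGrpCat.{u + 1}
    (Over.mkIdTerminal (X := X))).homAddEquiv _ _).trans (AddCommGrpCat.uliftZMultiplesAddEquiv _)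

theorem el_comp {G G' : BigSite.Ab Scheme.fppfPrecoverage X} (c) (g : G ⟶ G') :
    el G' (c ≫ g) = g.hom.app (op (Over.mk (𝟙 X))) (el G c) := by
  let adj := constantSheafAdj (QuotSh.J Scheme.fppfPrecoverage X) AddCommGrpCat.{u + 1}
    (Over.mkIdTerminal (X := X))
  change (adj.homEquiv _ _ (c ≫ g)) ⟨1⟩ = g.hom.app _ (adj.homEquiv _ _ c ⟨1⟩)
  rw [Adjunction.homEquiv_naturality_right]
  rfl

/-- If the first cohomology of the kernel vanishes, global sections lift. -/
theorem surjective_top {S : ShortComplex (BigSite.Ab Scheme.fppfPrecoverage X)} (hS : S.ShortExact)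
    (h : Subsingleton (BigSite.H Scheme.fppfPrecoverage X S.X₁ 1)) :
    Function.Surjective (S.g.hom.app (op (Over.mk (𝟙 X)))) := fun q => by
  obtain ⟨y, hy⟩ := Ext.covariant_sequence_exact₃ _ hS (Ext.mk₀ ((el S.X₃).symm q)) (zero_add 1)
    (h.elim _ _)
  obtain ⟨c, rfl⟩ := (Ext.mk₀_bijective _ _).2 y
  rw [Ext.mk₀_comp_mk₀] at hy
  exact ⟨el _ c, by rw [← el_comp, (Ext.mk₀_bijective _ _).1 hy, AddEquiv.apply_symm_apply]⟩

/-- Sections of the kernel are the sections killed by the quotient map. -/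
theorem exact_sect {S : ShortComplex (BigSite.Ab Scheme.fppfPrecoverage X)} (hS : S.ShortExact)
    (W : Over X) (i : S.X₂.obj.obj (op W)) (hi : S.g.hom.app (op W) i = 0) :
    ∃ w, S.f.hom.app (op W) w = i := by
  let F := sheafToPresheaf (QuotSh.J Scheme.fppfPrecoverage X) AddCommGrpCat.{u + 1} ⋙
    (evaluation (Over X)ᵒᵖ AddCommGrpCat.{u + 1}).obj (op W)
  have := hS.mono_f
  exact ((ShortComplex.ab_exact_iff _).1 (hS.exact.map_of_mono_of_preservesKernel F inferInstance
    inferInstance)) i hi

theorem injective_sect {S : ShortComplex (BigSite.Ab Scheme.fppfPrecoverage X)} (hS : S.ShortExact)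
    (W : Over X) : Function.Injective (S.f.hom.app (op W)) := by
  let F := sheafToPresheaf (QuotSh.J Scheme.fppfPrecoverage X) AddCommGrpCat.{u + 1} ⋙
    (evaluation (Over X)ᵒᵖ AddCommGrpCat.{u + 1}).obj (op W)
  have := hS.mono_f
  exact (AddCommGrpCat.mono_iff_injective _).1 (inferInstanceAs (Mono (F.map S.f)))

/-- `G_m` restricted along a morphism is `G_m`. -/
def pullGmIso (h : Y ⟶ X) :
    (BigSite.pullBig Scheme.fppfPrecoverage h AddCommGrpCat.{u + 1}).obj
      (CGrpSh.pts Scheme.fppfPrecoverage (Red.Gm X)) ≅ EtDl.GmF Y :=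
  (sheafToPresheaf _ _).preimageIso (NatIso.ofComponents
    (fun V => AddEquiv.toAddCommGrpIso
      (AddEquiv.ofBijective (AddMonoidHom.mk'
        (fun x : ULift.{u + 1} (Additive ((Over.map h).obj V.unop ⟶ Red.Gm X)) =>
          (ULift.up (Additive.ofMul (RedPts.Gm.isUnit_gmFn x.down.toMul).unit) :
            ULift.{u + 1} (Additive (Γ(V.unop.left, ⊤))ˣ)))
        fun x y => by
          apply ULift.ext
          apply Additive.toMul.injective
          apply Units.ext
          exact RedPts.Gm.gmFn_mul x.down.toMul y.down.toMul)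
        ⟨fun x y hxy => ULift.ext _ _ (Additive.toMul.injective (RedPts.Gm.gmFn_injective
            (congrArg (fun z : ULift.{u + 1} (Additive (Γ(V.unop.left, ⊤))ˣ) =>
              (z.down.toMul : Γ(V.unop.left, ⊤))) hxy))),
          fun z => ⟨ULift.up (Additive.ofMul (RedPts.Gm.gmPt z.down.toMul)), by
            apply ULift.ext
            apply Additive.toMul.injective
            apply Units.ext
            exact RedPts.Gm.gmFn_gmPt _⟩⟩))
    fun {V V'} f => AddCommGrpCat.ext fun x => by
      apply ULift.ext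
      apply Additive.toMul.injective
      apply Units.ext
      exact RedPts.Gm.gmFn_comp _ _)

/-- Restricted to the small etale site it is the etale `G_m`. -/
def pushGmIso [BigSite.AEtCont Scheme.fppfPrecoverage Y] :
    (EtFppf.aPush Y).obj (EtDl.GmF Y) ≅ EtCoh.Gm Y :=
  (sheafToPresheaf _ _).preimageIso (Iso.refl _)

/-- If `Pic Y` is trivial then `H^1_fppf(Y, G_m) = 0`. -/
theorem subsingleton_H1_GmF (hPic : ∀ L : Y.Modules, PicF.IsInvertible L →
      Nonempty (L ≅ Coh.structureModule Y)) :
    Subsingleton (BigSite.H Scheme.fppfPrecoverage Y (EtDl.GmF Y) 1) := by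
  let R := injectiveResolution (EtDl.GmF Y)
  obtain ⟨e⟩ := FppfGm.Coh.nonempty_H R
    (FppfEt.Resolution.locSurj_stage R FppfGm.Acyclic.la_GmF) 1
  have h := (Groth.Agent.S0236.result Y).2 hPic
  have : Subsingleton (EtCoh.H Y ((EtFppf.aPush Y).obj (EtDl.GmF Y)) 1) :=
    @Function.Injective.subsingleton _ _ _ ((extFunctorObj _ 1).mapIso
      pushGmIso).addCommGroupIsoToAddEquiv.injective h
  exact e.symm.injective.subsingleton

/-- If `Pic` of `T` is trivial then sections over `T` lift along a quotient by `G_m`. -/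
theorem surjective_of_pic {S : ShortComplex (BigSite.Ab Scheme.fppfPrecoverage X)}
    (hS : S.ShortExact) (e : S.X₁ ≅ CGrpSh.pts Scheme.fppfPrecoverage (Red.Gm X)) (T : Over X)
    (hPic : ∀ L : T.left.Modules, PicF.IsInvertible L →
      Nonempty (L ≅ Coh.structureModule T.left)) :
    Function.Surjective (S.g.hom.app (op T)) := by
  let P := BigSite.pullBig Scheme.fppfPrecoverage T.hom AddCommGrpCat.{u + 1}
  have hsurj := surjective_top (hS.map_of_exact P)
    (@Function.Injective.subsingleton _ _ _ ((extFunctorObj _ 1).mapIso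
      (P.mapIso e ≪≫ pullGmIso T.hom)).addCommGroupIsoToAddEquiv.injective
      (subsingleton_H1_GmF hPic))
  let a : (Over.map T.hom).obj (Over.mk (𝟙 T.left)) ≅ T :=
    Over.isoMk (Iso.refl T.left) ((Category.id_comp _).trans (Category.id_comp _).symm)
  intro q
  obtain ⟨i, hi⟩ := hsurj (S.X₃.obj.map a.hom.op q)
  refine ⟨S.X₂.obj.map a.inv.op i, ?_⟩
  rw [NatTrans.naturality_apply]
  refine (congrArg (S.X₃.obj.map a.inv.op) hi).trans ?_
  rw [← ConcreteCategory.comp_apply, ← Functor.map_comp, ← op_comp, Iso.inv_hom_id, op_id,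
    CategoryTheory.Functor.map_id]
  rfl

end Groth.Agent.Lib.GaGmExt.Sect
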