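import Groth.Agent.H54.AdeqSite.Cartan
import Groth.Agent.Lib.PHS.Ga
import Groth.Agent.Lib.GaGmExt.Sect

/-!
# Vanishing of the cohomology of the additive group on the fppf site of an affine scheme
-/

set_option autoImplicit false
set_option linter.style.haveILetI false

universe u

open CategoryTheory CategoryTheory.Limits AlgebraicGeometry Opposite MonObj MonoidalCategory CartesianMonoidalCategory Abelian
open scoped TensorProduct

noncomputable section

namespace Groth.Agent.Lib.GaGmExt.AmitGa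

open Groth.Agent.H54.AdeqSite Groth.Agent.H54.Adeq Groth.Agent.H54.AdeqSite.AmitCx

variable {S : Scheme.{u}}

/-- The Amitsur complexes of the additive group are exact in positive degrees. -/
theorem amit_Ga : Cartan.Amit (CGrpSh.pts Scheme.fppfPrecoverage (Red.Ga S)) := by
  intro R a B _ _ _ m x hx
  let P := CGrpSh.pts Scheme.fppfPrecoverage (Red.Ga S)
  let ev : ∀ n, cell B a P.obj n → (Amitsur.Tp R B n : Type u) := fun n y =>
    PHS.Ga.gfn (A := (R : Type u)) (j := a) (y : ULift.{u + 1} (Additive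
      ((_root_.Adeq.specOver a).obj (op (Amitsur.Tp R B n)) ⟶ Red.Ga S))).down.toMul
  have evadd : ∀ n y z, ev n (y + z) = ev n y + ev n z := fun n y z => PHS.Ga.gfn_mul _ _
  let θ : ∀ n, cell B a P.obj n →+ (Amitsur.Tp R B n : Type u) ⊗[(R : Type u)] ULift.{u + 1} (R : Type u) :=
    fun n => AddMonoidHom.mk' (fun y => ev n y ⊗ₜ[(R : Type u)] ULift.up (1 : (R : Type u)))
      fun y z => by rw [evadd, TensorProduct.add_tmul]
  have evmap : ∀ n (i : Fin (n + 2)) y,
      ev (n + 1) (P.obj.map (sp a (CommAlgCat.ofHom (Amitsur.δ R B n i))).op y) = Amitsur.δ R B n i (ev n y) :=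
    fun n i y => PHS.Ga.gfn_ov a (Amitsur.δ R B n i) _
  have θmap : ∀ n y, θ (n + 1) (dd B a P.obj n y) = Amitsur.D n (ULift.{u + 1} (R : Type u)) (θ n y) := fun n y => by
    rw [dd_apply, map_sum, Amitsur.D_apply]
    refine Finset.sum_congr rfl fun i _ => ?_
    rw [map_zsmul]
    refine congrArg ((-1 : ℤ) ^ (i : ℕ) • ·) ?_
    change ev (n + 1) (P.obj.map (sp a (CommAlgCat.ofHom (Amitsur.δ R B n i))).op y) ⊗ₜ[(R : Type u)] _ = _
    rw [evmap]
    rfl
  have evinj : ∀ n, Function.Injective (ev n) := fun n y z h =>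
    ULift.ext _ _ (Additive.toMul.injective (PHS.Ga.gfn_injective h))
  let v : ∀ n, (Amitsur.Tp R B n : Type u) ⊗[(R : Type u)] ULift.{u + 1} (R : Type u) →ₗ[(R : Type u)]
      (Amitsur.Tp R B n : Type u) := fun n =>
    (TensorProduct.rid (R : Type u) (Amitsur.Tp R B n : Type u)).toLinearMap ∘ₗ
      (ULift.moduleEquiv (R := (R : Type u)) (M := (R : Type u))).toLinearMap.lTensor _
  have hv : ∀ n t, v n (t ⊗ₜ[(R : Type u)] ULift.up (1 : (R : Type u))) = t := fun n t => by
    change (1 : (R : Type u)) • t = t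
    exact _root_.one_smul (R : Type u) t
  have hsurj : ∀ n w, ∃ y, θ n y = w := fun n w => by
    obtain ⟨g, hg⟩ := PHS.Ga.exists_gfn (S := S) a (v n w)
    refine ⟨ULift.up (Additive.ofMul g), ?_⟩
    change PHS.Ga.gfn g ⊗ₜ[(R : Type u)] ULift.up (1 : (R : Type u)) = w
    rw [hg]
    clear hg g
    induction w with
    | zero => rw [map_zero, TensorProduct.zero_tmul]
    | tmul t r =>
      change (r.down • t) ⊗ₜ[(R : Type u)] ULift.up (1 : (R : Type u)) = t ⊗ₜ r
      rw [TensorProduct.smul_tmul]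
      exact congrArg (t ⊗ₜ[(R : Type u)] ·) (ULift.ext _ _ (mul_one r.down))
    | add p q hp hq => rw [map_add, TensorProduct.add_tmul, hp, hq]
  have θinj : ∀ n, Function.Injective (θ n) := fun n y z h =>
    evinj n ((hv n _).symm.trans ((congrArg (v n) h).trans (hv n _)))
  obtain ⟨w, hw⟩ := Amitsur.exists_D_eq m (θ (m + 1) x) (by rw [← θmap, hx, map_zero])
  obtain ⟨y, hy⟩ := hsurj m w
  exact ⟨y, θinj (m + 1) (by rw [θmap, hy, hw])⟩

/-- The additive group has no cohomology in positive degrees on an affine base. -/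
theorem subsingleton_H_Ga [IsAffine S] (q : ℕ) :
    Subsingleton (BigSite.H Scheme.fppfPrecoverage S (CGrpSh.pts Scheme.fppfPrecoverage (Red.Ga S)) (q + 1)) :=
  Cartan.subsingleton_H q _ amit_Ga

/-- Vanishing of cohomology in a fixed degree is stable under extensions. -/
theorem subsingleton_H_ext {E : ShortComplex (BigSite.Ab Scheme.fppfPrecoverage S)} (hE : E.ShortExact) (n : ℕ)
    (h₁ : Subsingleton (BigSite.H Scheme.fppfPrecoverage S E.X₁ n))
    (h₃ : Subsingleton (BigSite.H Scheme.fppfPrecoverage S E.X₃ n)) :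
    Subsingleton (BigSite.H Scheme.fppfPrecoverage S E.X₂ n) := by
  refine subsingleton_of_forall_eq 0 fun x => ?_
  obtain ⟨y, rfl⟩ := Ext.covariant_sequence_exact₂ _ hE x (@Subsingleton.elim _ h₃ _ _)
  rw [@Subsingleton.elim _ h₁ y 0, Ext.zero_comp]

end Groth.Agent.Lib.GaGmExt.AmitGa
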