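import Groth.Agent.Lib.GaGmExt.Sect

/-!
# Sheaves of sections over a product with a fixed object
-/

set_option autoImplicit false

universe u

open CategoryTheory CategoryTheory.Limits AlgebraicGeometry Opposite CategoryTheory.Abelian MonObj
  MonoidalCategory CartesianMonoidalCategory
open Groth.Agent.Lib.BigEt.Basic

noncomputable section

namespace Groth.Agent.Lib.GaGmExt.Shift

open Groth.Agent.Lib.GaGmExt.Sect

variable {X : Scheme.{u}}

/-- `F ↦ (T ↦ F(T ×_X A))`. -/
abbrev P (A : Over X) : BigSite.Ab Scheme.fppfPrecoverage X ⥤ BigSite.Ab Scheme.fppfPrecoverage X :=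
  BigSite.pullBig Scheme.fppfPrecoverage A.hom AddCommGrpCat.{u + 1} ⋙
    BigSite.pushBig Scheme.fppfPrecoverage A.hom AddCommGrpCat.{u + 1}

/-- The product with `A`. -/
abbrev Fn (A : Over X) : Over X ⥤ Over X := Over.pullback A.hom ⋙ Over.map A.hom

/-- The first projection. -/
def pr₁ (A : Over X) (T : Over X) : (Fn A).obj T ⟶ T :=
  Over.homMk (pullback.fst T.hom A.hom) pullback.condition

/-- The second projection. -/
def pr₂ (A : Over X) (T : Over X) : (Fn A).obj T ⟶ A :=
  Over.homMk (pullback.snd T.hom A.hom) rfl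

/-- The pairing. -/
def pair {A U T : Over X} (f : U ⟶ T) (a : U ⟶ A) : U ⟶ (Fn A).obj T :=
  Over.homMk (pullback.lift f.left a.left ((Over.w f).trans (Over.w a).symm)) (by
    change pullback.lift _ _ _ ≫ pullback.snd T.hom A.hom ≫ A.hom = U.hom
    rw [pullback.lift_snd_assoc]
    exact Over.w a)

@[reassoc (attr := simp)]
theorem pair_pr₁ {A U T : Over X} (f : U ⟶ T) (a : U ⟶ A) : pair f a ≫ pr₁ A T = f :=
  Over.OverMorphism.ext (pullback.lift_fst _ _ _)

@[reassoc (attr := simp)]
theorem pair_pr₂ {A U T : Over X} (f : U ⟶ T) (a : U ⟶ A) : pair f a ≫ pr₂ A T = a :=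
  Over.OverMorphism.ext (pullback.lift_snd _ _ _)

theorem hom_ext' {A U T : Over X} {f g : U ⟶ (Fn A).obj T}
    (h₁ : f ≫ pr₁ A T = g ≫ pr₁ A T) (h₂ : f ≫ pr₂ A T = g ≫ pr₂ A T) : f = g :=
  Over.OverMorphism.ext (pullback.hom_ext (congrArg CommaMorphism.left h₁)
    (congrArg CommaMorphism.left h₂))

@[reassoc (attr := simp)]
theorem map_pr₁ (A : Over X) {T T' : Over X} (g : T ⟶ T') :
    (Fn A).map g ≫ pr₁ A T' = pr₁ A T ≫ g :=
  Over.OverMorphism.ext (pullback.lift_fst _ _ _)

@[reassoc (attr := simp)]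
theorem map_pr₂ (A : Over X) {T T' : Over X} (g : T ⟶ T') :
    (Fn A).map g ≫ pr₂ A T' = pr₂ A T :=
  Over.OverMorphism.ext (pullback.lift_snd _ _ _)

/-- Functoriality in the object. -/
def fnMap {A A' : Over X} (m : A' ⟶ A) (T : Over X) : (Fn A').obj T ⟶ (Fn A).obj T :=
  pair (pr₁ A' T) (pr₂ A' T ≫ m)

@[reassoc]
theorem pair_fnMap {A A' U T : Over X} (m : A' ⟶ A) (f : U ⟶ T) (a : U ⟶ A') :
    pair f a ≫ fnMap m T = pair f (a ≫ m) :=
  hom_ext' (by rw [Category.assoc, fnMap, pair_pr₁, pair_pr₁, pair_pr₁])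
    (by rw [Category.assoc, fnMap, pair_pr₂, pair_pr₂_assoc, pair_pr₂])

theorem fnMap_naturality {A A' : Over X} (m : A' ⟶ A) {T T' : Over X} (g : T ⟶ T') :
    (Fn A').map g ≫ fnMap m T' = fnMap m T ≫ (Fn A).map g :=
  hom_ext'
    (by rw [Category.assoc, Category.assoc, fnMap, fnMap, pair_pr₁, map_pr₁, map_pr₁, ← Category.assoc, pair_pr₁])
    (by rw [Category.assoc, Category.assoc, fnMap, fnMap, pair_pr₂, ← Category.assoc, map_pr₂, map_pr₂, pair_pr₂])

/-- Restriction along `m`. -/
def pMap {A A' : Over X} (m : A' ⟶ A) (B : BigSite.Ab Scheme.fppfPrecoverage X) :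
    (P A).obj B ⟶ (P A').obj B :=
  ⟨{ app := fun T => B.obj.map (fnMap m T.unop).op
     naturality := fun T T' g => by
       change B.obj.map ((Fn A).map g.unop).op ≫ B.obj.map (fnMap m T'.unop).op =
         B.obj.map (fnMap m T.unop).op ≫ B.obj.map ((Fn A').map g.unop).op
       rw [← Functor.map_comp, ← Functor.map_comp, ← op_comp, ← op_comp, fnMap_naturality] }⟩

/-- Sections over the product with the base. -/
def topIso (A : Over X) : (Fn A).obj (Over.mk (𝟙 X)) ≅ A where
  hom := pr₂ A _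
  inv := pair (Over.mkIdTerminal.from A) (𝟙 A)
  hom_inv_id := hom_ext' (Over.mkIdTerminal.hom_ext _ _) (by simp)
  inv_hom_id := pair_pr₂ _ _

/-- A left exact criterion for vanishing of `Ext^1`. -/
theorem subsingleton_ext_of_exact {S : ShortComplex (BigSite.Ab Scheme.fppfPrecoverage X)}
    (hS : S.Exact) [Mono S.f]
    (h₁ : Subsingleton (BigSite.H Scheme.fppfPrecoverage X S.X₂ 1))
    (hsurj : Function.Surjective (S.g.hom.app (op (Over.mk (𝟙 X))))) :
    Subsingleton (BigSite.H Scheme.fppfPrecoverage X S.X₁ 1) := by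
  let S' : ShortComplex (BigSite.Ab Scheme.fppfPrecoverage X) :=
    ShortComplex.mk S.f (cokernel.π S.f) (cokernel.condition _)
  have hS' : S'.ShortExact :=
    { exact := ShortComplex.exact_of_g_is_cokernel _ (cokernelIsCokernel _)
      mono_f := inferInstanceAs (Mono S.f)
      epi_g := inferInstanceAs (Epi (cokernel.π S.f)) }
  have hmono : Mono (cokernel.desc S.f S.g S.zero) := S.exact_iff_mono_cokernel_desc.1 hS
  refine subsingleton_of_forall_eq 0 fun x => ?_
  obtain ⟨y, hy⟩ := Ext.covariant_sequence_exact₁ _ hS' x (h₁.elim _ _) (zero_add 1)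
  obtain ⟨k, rfl⟩ := (Ext.mk₀_bijective _ _).2 y
  obtain ⟨t, ht⟩ := hsurj (el _ (k ≫ cokernel.desc S.f S.g S.zero))
  have hk : (el S.X₂).symm t ≫ cokernel.π S.f = k := by
    rw [← cancel_mono (cokernel.desc S.f S.g S.zero), Category.assoc, cokernel.π_desc]
    apply (el S.X₃).injective
    rw [el_comp, AddEquiv.apply_symm_apply, ht]
  rw [← hy, ← hk, ← Ext.mk₀_comp_mk₀,
    Ext.comp_assoc _ _ _ (add_zero 0) (zero_add 1) (by omega)]
  exact (congrArg (fun e => Ext.comp _ e (zero_add 1)) hS'.comp_extClass).trans (Ext.comp_zero _ _ _ _ _)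

/-- If sections over `A` lift along every quotient by `B`, then `H^1(X, P_A B) = 0`. -/
theorem subsingleton_H1_P (A : Over X) (B : BigSite.Ab Scheme.fppfPrecoverage X)
    (hlift : ∀ {S : ShortComplex (BigSite.Ab Scheme.fppfPrecoverage X)} (_ : S.ShortExact)
      (_ : S.X₁ ≅ B), Function.Surjective (S.g.hom.app (op A))) :
    Subsingleton (BigSite.H Scheme.fppfPrecoverage X ((P A).obj B) 1) := by
  let S : ShortComplex (BigSite.Ab Scheme.fppfPrecoverage X) :=
    ShortComplex.mk (Injective.ι B) (cokernel.π (Injective.ι B)) (cokernel.condition _)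
  have hS : S.ShortExact :=
    { exact := ShortComplex.exact_of_g_is_cokernel _ (cokernelIsCokernel _)
      mono_f := inferInstanceAs (Mono (Injective.ι B))
      epi_g := inferInstanceAs (Epi (cokernel.π (Injective.ι B))) }
  have : PreservesLimitsOfSize.{0, 0}
      (BigSite.pushBig Scheme.fppfPrecoverage A.hom AddCommGrpCat.{u + 1}) :=
    (BigSite.bigAdj Scheme.fppfPrecoverage A.hom AddCommGrpCat.{u + 1}).rightAdjoint_preservesLimits
  have : PreservesFiniteLimits
      (BigSite.pushBig Scheme.fppfPrecoverage A.hom AddCommGrpCat.{u + 1}) :=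
    PreservesLimitsOfSize.preservesFiniteLimits _
  have : PreservesFiniteLimits (P A) := comp_preservesFiniteLimits _ _
  have : Mono S.f := hS.mono_f
  have : Injective ((BigSite.pullBig Scheme.fppfPrecoverage A.hom AddCommGrpCat.{u + 1}).obj
      (Injective.under B)) := Functor.injective_obj _ _
  have : Injective (S.map (P A)).X₂ :=
    Injective.injective_of_adjoint (BigSite.bigAdj Scheme.fppfPrecoverage A.hom AddCommGrpCat.{u + 1})
      ((BigSite.pullBig Scheme.fppfPrecoverage A.hom AddCommGrpCat.{u + 1}).obj (Injective.under B))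
  have : Mono (S.map (P A)).f := inferInstanceAs (Mono ((P A).map S.f))
  refine subsingleton_ext_of_exact (S := S.map (P A))
    (hS.exact.map_of_mono_of_preservesKernel (P A) inferInstance inferInstance)
    (subsingleton_of_forall_eq 0 fun x => Ext.eq_zero_of_injective x) ?_
  intro q
  let a := topIso A
  obtain ⟨i, hi⟩ := hlift hS (Iso.refl _) (S.X₃.obj.map a.inv.op q)
  refine ⟨S.X₂.obj.map a.hom.op i, ?_⟩
  change S.g.hom.app (op ((Fn A).obj (Over.mk (𝟙 X)))) _ = q
  rw [NatTrans.naturality_apply]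
  refine (congrArg (S.X₃.obj.map a.hom.op) hi).trans ?_
  rw [← ConcreteCategory.comp_apply, ← Functor.map_comp, ← op_comp, Iso.hom_inv_id, op_id,
    CategoryTheory.Functor.map_id]
  rfl

end Groth.Agent.Lib.GaGmExt.Shift
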