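import Groth.Prelude.Def_CGrpSh2
import Groth.Agent.Lib.GaGmExt.Additive
import Groth.Agent.Lib.GaGmExt.Shift

/-!
# First cohomology of the dual sheaf of a commutative group scheme
-/

set_option autoImplicit false

universe u

open CategoryTheory CategoryTheory.Limits AlgebraicGeometry Opposite CategoryTheory.Abelian MonObj
  MonoidalCategory CartesianMonoidalCategory

noncomputable section

namespace Groth.Agent.Lib.GaGmExt.Dual

open Groth.Agent.Lib.GaGmExt.Sect Groth.Agent.Lib.GaGmExt.Shift Groth.Agent.Lib.GaGmExt.Additive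

variable {X : Scheme.{u}} (G : Over X) [GrpObj G] [IsCommMonObj G]
  (B : BigSite.Ab Scheme.fppfPrecoverage X)

/-- The sheaf of homomorphisms. -/
abbrev H : BigSite.Ab Scheme.fppfPrecoverage X :=
  HomSh.homSh (QuotSh.J Scheme.fppfPrecoverage X) (CGrpSh.pts Scheme.fppfPrecoverage G) B

variable {G B} in
theorem app_natural {T : Over X} (φ : (H G B).obj.obj (op T)) {U V : Over T} (k : U ⟶ V)
    (x : ULift.{u + 1} (Additive (V.left ⟶ G))) :
    φ.hom.app (op U) (ULift.up (Additive.ofMul (k.left ≫ x.down.toMul))) =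
      B.obj.map k.left.op (φ.hom.app (op V) x) :=
  NatTrans.naturality_apply φ.hom k.op x

/-- Evaluation at the universal point. -/
def χ : H G B ⟶ (P G).obj B :=
  ⟨{ app := fun T => AddCommGrpCat.ofHom
      (AddMonoidHom.mk' (fun φ : (H G B).obj.obj T =>
        (φ.hom.app (op (Over.mk (pr₁ G T.unop))) (ULift.up (Additive.ofMul (pr₂ G T.unop))) :
          B.obj.obj (op ((Fn G).obj T.unop)))) fun φ ψ => rfl)
     naturality := fun T T' g => AddCommGrpCat.ext fun φ => by
       let k : Over.mk ((Fn G).map g.unop ≫ pr₁ G T.unop) ⟶ Over.mk (pr₁ G T.unop) :=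
         Over.homMk ((Fn G).map g.unop) rfl
       refine Eq.trans ?_ (app_natural φ k (ULift.up (Additive.ofMul (pr₂ G T.unop))))
       change φ.hom.app (op (Over.mk (pr₁ G T'.unop ≫ g.unop)))
          (ULift.up (Additive.ofMul (pr₂ G T'.unop))) = _
       refine (HomSh.app_over_mk_congr (QuotSh.J Scheme.fppfPrecoverage X) φ
         (map_pr₁ G g.unop).symm _).trans ?_
       refine congrArg (φ.hom.app _) (ULift.ext _ _ (congrArg Additive.ofMul ?_))
       exact (map_pr₂ G g.unop).symm }⟩

variable {G B} in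
theorem app_eq {T : Over X} (φ : (H G B).obj.obj (op T)) (U : Over T)
    (x : ULift.{u + 1} (Additive (U.left ⟶ G))) :
    φ.hom.app (op U) x = B.obj.map (pair U.hom x.down.toMul).op ((χ G B).hom.app (op T) φ) := by
  let k : U ⟶ Over.mk (pr₁ G T) := Over.homMk (pair U.hom x.down.toMul) (pair_pr₁ _ _)
  refine Eq.trans ?_ (app_natural φ k (ULift.up (Additive.ofMul (pr₂ G T))))
  refine congrArg (φ.hom.app (op U)) (ULift.ext _ _ ?_)
  exact (congrArg Additive.ofMul (pair_pr₂ U.hom x.down.toMul)).symm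

theorem χ_injective (T : Over X) : Function.Injective ((χ G B).hom.app (op T)) := by
  intro φ ψ h
  apply Sheaf.hom_ext
  refine NatTrans.ext (funext fun U => AddCommGrpCat.ext fun x => ?_)
  exact (app_eq φ U.unop x).trans ((congrArg _ h).trans (app_eq ψ U.unop x).symm)

/-- The defect of additivity. -/
def d : (P G).obj B ⟶ (P (G ⊗ G)).obj B :=
  pMap (fst G G * snd G G) B - (pMap (fst G G) B + pMap (snd G G) B)

theorem d_apply (T : Over X) (b : B.obj.obj (op ((Fn G).obj T))) :
    (d G B).hom.app (op T) b = B.obj.map (fnMap (fst G G * snd G G) T).op b -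
      (B.obj.map (fnMap (fst G G) T).op b + B.obj.map (fnMap (snd G G) T).op b) := rfl

theorem χ_d : χ G B ≫ d G B = 0 := by
  apply Sheaf.hom_ext
  refine NatTrans.ext (funext fun T => AddCommGrpCat.ext fun φ => ?_)
  change (d G B).hom.app (op T.unop) ((χ G B).hom.app (op T.unop) φ) = 0
  have key : ∀ m : G ⊗ G ⟶ G, B.obj.map (fnMap m T.unop).op ((χ G B).hom.app (op T.unop) φ) =
      φ.hom.app (op (Over.mk (pr₁ (G ⊗ G) T.unop)))
        (ULift.up (Additive.ofMul (pr₂ (G ⊗ G) T.unop ≫ m))) :=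
    fun m => (app_eq φ (Over.mk (pr₁ (G ⊗ G) T.unop))
      (ULift.up (Additive.ofMul (pr₂ (G ⊗ G) T.unop ≫ m)))).symm
  rw [d_apply, key, key, key]
  refine sub_eq_zero.2 (Eq.trans ?_ (map_add _ _ _))
  refine congrArg _ (ULift.ext _ _ (congrArg Additive.ofMul ?_))
  exact MonObj.comp_mul _ _ _

/-- The homomorphism attached to an additive section. -/
def ofKer {T : Over X} (b : B.obj.obj (op ((Fn G).obj T)))
    (hb : (d G B).hom.app (op T) b = 0) : (H G B).obj.obj (op T) :=
  ⟨{ app := fun U => AddCommGrpCat.ofHom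
      (AddMonoidHom.mk' (fun x : ULift.{u + 1} (Additive (U.unop.left ⟶ G)) =>
        B.obj.map (pair U.unop.hom x.down.toMul).op b) fun x y => by
        have h := congrArg (B.obj.map (pair U.unop.hom (lift x.down.toMul y.down.toMul)).op)
          (sub_eq_zero.1 ((d_apply G B T b).symm.trans hb))
        rw [map_add, map_comp_apply', map_comp_apply', map_comp_apply', pair_fnMap, pair_fnMap,
          pair_fnMap, MonObj.comp_mul, lift_fst, lift_snd] at h
        exact h)
     naturality := fun U V k => AddCommGrpCat.ext fun x => by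
       refine Eq.trans ?_ (map_comp_apply' k.unop.left (pair U.unop.hom x.down.toMul) b).symm
       change B.obj.map (pair V.unop.hom (k.unop.left ≫ x.down.toMul)).op b = _
       rw [hom_ext' (f := pair V.unop.hom (k.unop.left ≫ x.down.toMul))
         (g := k.unop.left ≫ pair U.unop.hom x.down.toMul) (by simp) (by simp)] }⟩

theorem χ_ofKer {T : Over X} (b : B.obj.obj (op ((Fn G).obj T)))
    (hb : (d G B).hom.app (op T) b = 0) : (χ G B).hom.app (op T) (ofKer G B b hb) = b := by
  change B.obj.map (pair (pr₁ G T) (pr₂ G T)).op b = b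
  rw [hom_ext' (f := pair (pr₁ G T) (pr₂ G T)) (g := 𝟙 _) (by simp) (by simp), op_id,
    CategoryTheory.Functor.map_id]
  rfl

/-- The sheaf of homomorphisms is the kernel of the defect of additivity. -/
theorem isIso_lift : IsIso (kernel.lift (d G B) (χ G B) (χ_d G B)) := by
  have : ∀ T : (Over X)ᵒᵖ, IsIso ((kernel.lift (d G B) (χ G B) (χ_d G B)).hom.app T) := fun T => by
    rw [ConcreteCategory.isIso_iff_bijective]
    have hι : Function.Injective ((kernel.ι (d G B)).hom.app T) :=
      (AddCommGrpCat.mono_iff_injective _).1 (inferInstanceAs (Mono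
        ((sheafToPresheaf (QuotSh.J Scheme.fppfPrecoverage X) AddCommGrpCat.{u + 1} ⋙
          (evaluation (Over X)ᵒᵖ AddCommGrpCat.{u + 1}).obj T).map (kernel.ι (d G B)))))
    have hl : ∀ φ, (kernel.ι (d G B)).hom.app T
        ((kernel.lift (d G B) (χ G B) (χ_d G B)).hom.app T φ) = (χ G B).hom.app T φ :=
      fun φ => congr(($(kernel.lift_ι (d G B) (χ G B) (χ_d G B))).hom.app T φ)
    refine ⟨fun φ ψ h => χ_injective G B T.unop ?_, fun k => ?_⟩
    · exact (hl φ).symm.trans ((congrArg _ h).trans (hl ψ))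
    · have hk : (d G B).hom.app (op T.unop) ((kernel.ι (d G B)).hom.app T k) = 0 :=
        congr(($(kernel.condition (d G B))).hom.app T k)
      exact ⟨ofKer G B _ hk, hι ((hl _).trans (χ_ofKer G B _ hk))⟩
  have h := NatIso.isIso_of_isIso_app (kernel.lift (d G B) (χ G B) (χ_d G B)).hom
  have : IsIso ((sheafToPresheaf (QuotSh.J Scheme.fppfPrecoverage X) AddCommGrpCat.{u + 1}).map
      (kernel.lift (d G B) (χ G B) (χ_d G B))) := h
  exact isIso_of_reflects_iso _ (sheafToPresheaf (QuotSh.J Scheme.fppfPrecoverage X)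
    AddCommGrpCat.{u + 1})

/-- Vanishing of `H^1(X, Hom(G, G_m))`. -/
theorem subsingleton_H1
    (hlift : ∀ {S : ShortComplex (BigSite.Ab Scheme.fppfPrecoverage X)} (_ : S.ShortExact)
      (_ : S.X₁ ≅ CGrpSh.pts Scheme.fppfPrecoverage (Red.Gm X)),
      Function.Surjective (S.g.hom.app (op G)))
    (hconst : ∀ w : G ⊗ G ⟶ Red.Gm X, ∃ v : 𝟙_ (Over X) ⟶ Red.Gm X, toUnit _ ≫ v = w) :
    Subsingleton (BigSite.H Scheme.fppfPrecoverage X
      (H G (CGrpSh.pts Scheme.fppfPrecoverage (Red.Gm X))) 1) := by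
  let B := CGrpSh.pts Scheme.fppfPrecoverage (Red.Gm X)
  let S : ShortComplex (BigSite.Ab Scheme.fppfPrecoverage X) :=
    ShortComplex.mk (kernel.ι (d G B)) (d G B) (kernel.condition _)
  have : Mono S.f := inferInstanceAs (Mono (kernel.ι (d G B)))
  have h := subsingleton_ext_of_exact (S := S)
    (ShortComplex.exact_of_f_is_kernel _ (kernelIsKernel _)) (subsingleton_H1_P G B hlift) ?_
  · have := isIso_lift G B
    exact @Function.Injective.subsingleton _ _ _ ((extFunctorObj _ 1).mapIso
      (asIso (kernel.lift (d G B) (χ G B) (χ_d G B)))).addCommGroupIsoToAddEquiv.injective h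
  intro w
  let T₀ : Over X := Over.mk (𝟙 X)
  let a := topIso (G ⊗ G)
  let w' : G ⊗ G ⟶ Red.Gm X := a.inv ≫ (w : ULift.{u + 1} (Additive ((Fn (G ⊗ G)).obj T₀ ⟶ Red.Gm X))).down.toMul
  obtain ⟨v, hv⟩ := hconst w'
  let b₀ : B.obj.obj (op (𝟙_ (Over X))) := ULift.up (Additive.ofMul v)
  refine ⟨- B.obj.map (toUnit ((Fn G).obj T₀)).op b₀, ?_⟩
  refine (d_apply G B T₀ _).trans ?_
  rw [map_neg, map_neg, map_neg, map_comp_apply', map_comp_apply', map_comp_apply', comp_toUnit,
    comp_toUnit, comp_toUnit]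
  have hw : B.obj.map (toUnit ((Fn (G ⊗ G)).obj T₀)).op b₀ = w := by
    apply ULift.ext
    change Additive.ofMul (toUnit _ ≫ v) = _
    rw [← comp_toUnit a.hom, Category.assoc, hv, Iso.hom_inv_id_assoc]
    rfl
  rw [hw]
  abel

end Groth.Agent.Lib.GaGmExt.Dual
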