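import Groth.Agent.Lib.GaGmExt.LocChar

/-!
# Degree zero cohomology on the big site is given by sections
-/

set_option autoImplicit false
set_option linter.style.haveILetI false

universe u

open CategoryTheory CategoryTheory.Limits AlgebraicGeometry Opposite Abelian

noncomputable section

namespace Groth.Agent.Lib.GaGmExt.HUZero

open LocChar

variable {S : Scheme.{u}} (P : Precoverage Scheme.{u}) {T T' : Over S}

theorem sec_surjective (T : Over S) (F : BigSite.Ab P S) : Function.Surjective (sec P T F) := by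
  intro s
  let F' := (BigSite.pullBig P T.hom AddCommGrpCat.{u + 1}).obj F
  let m : ∀ U : (Over T.left)ᵒᵖ, (F'.obj.obj U : Type (u + 1)) := fun U =>
    F'.obj.map (Over.homMk U.unop.hom : U.unop ⟶ Over.mk (𝟙 T.left)).op s
  let τ : cst T.left ⟶ F'.obj :=
    { app := fun U => AddCommGrpCat.ofHom (AddMonoidHom.mk' (fun n : ULift.{u + 1} ℤ => n.down • m U)
        fun a b => add_smul a.down b.down (m U))
      naturality := fun U V k => AddCommGrpCat.ext fun n => by
        change n.down • m V = F'.obj.map k (n.down • m U)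
        rw [map_zsmul]
        refine congrArg (n.down • ·) ?_
        change F'.obj.map _ s = F'.obj.map k (F'.obj.map _ s)
        rw [← ConcreteCategory.comp_apply, ← Functor.map_comp]
        refine congrArg (fun f => F'.obj.map f s) (Quiver.Hom.unop_inj (Over.OverMorphism.ext ?_))
        exact (Over.w k.unop).symm }
  refine ⟨⟨sheafifyLift (QuotSh.J P T.left) τ F'.property⟩, ?_⟩
  refine (congr(($(toSheafify_sheafifyLift (QuotSh.J P T.left) τ F'.property)).app
    (op (Over.mk (𝟙 T.left))) (ULift.up 1))).trans ?_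
  change (1 : ℤ) • F'.obj.map _ s = s
  rw [one_smul]
  refine (congrArg (fun f => F'.obj.map (Quiver.Hom.op f) s)
    (show (Over.homMk (Over.mk (𝟙 T.left)).hom : Over.mk (𝟙 T.left) ⟶ Over.mk (𝟙 T.left)) = 𝟙 _ from
      Over.OverMorphism.ext rfl)).trans ?_
  exact congr(($(F'.obj.map_id (op (Over.mk (𝟙 T.left))))) s)

/-- The section of a degree zero class. -/
def σ (F : BigSite.Ab P S) (x : BigSite.HU P F 0 T) : F.obj.obj (op (top' T)) := sec P T F (Ext.homEquiv₀ x)

theorem σ_bijective (F : BigSite.Ab P S) : Function.Bijective (σ P (T := T) F) :=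
  Function.Bijective.comp (g := sec P T F) ⟨sec_injective P T F, sec_surjective P T F⟩ Ext.homEquiv₀.bijective

theorem σ_resHU (g : T' ⟶ T) (F : BigSite.Ab P S) (x : BigSite.HU P F 0 T) :
    σ P F (HRes.resHU P F 0 g x) = F.obj.map (top'Map g).op (σ P F x) := by
  obtain ⟨φ, rfl⟩ := (Ext.mk₀_bijective _ _).2 x
  have h : ∀ {T₁ : Over S} (ψ : (constantSheaf (QuotSh.J P T₁.left) AddCommGrpCat.{u + 1}).obj (AddCommGrpCat.of (ULift.{u + 1} ℤ)) ⟶
      (BigSite.pullBig P T₁.hom AddCommGrpCat.{u + 1}).obj F), σ P F (Ext.mk₀ ψ) = sec P T₁ F ψ := fun ψ =>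
    congrArg (sec P _ F) ((Ext.mk₀_bijective _ _).1 (Ext.mk₀_homEquiv₀_apply _))
  rw [h, ← sec_resHU, ← h]
  refine congrArg (σ P F) ?_
  simp only [HRes.resHU, AddMonoidHom.coe_comp, Function.comp_apply, Sheaf.H.map_apply, HRes.pull_apply,
    Ext.mapExactFunctor_mk₀, Ext.mk₀_comp_mk₀]

end Groth.Agent.Lib.GaGmExt.HUZero
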