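import Groth.Prelude.Def_HRes
import Groth.Agent.Lib.HResPull
import Groth.Agent.Lib.GaGmExt.Dual
import Groth.Agent.Lib.RedPts.Gm
import Mathlib.LinearAlgebra.TensorProduct.Basis
import Mathlib.AlgebraicGeometry.Pullbacks

/-!
# Characters of a group scheme with affine generic fibre are detected by jointly injective families
-/

set_option autoImplicit false
set_option linter.style.haveILetI false

universe u

open CategoryTheory CategoryTheory.Limits AlgebraicGeometry Opposite MonObj MonoidalCategory CartesianMonoidalCategory Abelian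
open scoped TensorProduct

noncomputable section

namespace Groth.Agent.Lib.GaGmExt.LocChar

section Degree0

variable {S : Scheme.{u}} (P : Precoverage Scheme.{u})

/-- The terminal object of the big site of an object, as an object over the base. -/
abbrev top' (T : Over S) : Over S := (Over.map T.hom).obj (Over.mk (𝟙 T.left))

/-- The constant presheaf `ℤ`. -/
abbrev cst (X : Scheme.{u}) : (Over X)ᵒᵖ ⥤ AddCommGrpCat.{u + 1} :=
  (Functor.const (Over X)ᵒᵖ).obj (AddCommGrpCat.of (ULift.{u + 1} ℤ))

/-- The unit of sheafification at an integer. -/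
abbrev tS (X : Scheme.{u}) (U : (Over X)ᵒᵖ) (n : ULift.{u + 1} ℤ) :
    ((constantSheaf (QuotSh.J P X) AddCommGrpCat.{u + 1}).obj (AddCommGrpCat.of (ULift.{u + 1} ℤ))).obj.obj U :=
  ((toSheafify (QuotSh.J P X) (cst X)).app U).hom n

/-- The value at `1` of a map out of the constant sheaf. -/
abbrev sec (T : Over S) (F : BigSite.Ab P S)
    (φ : (constantSheaf (QuotSh.J P T.left) AddCommGrpCat.{u + 1}).obj (AddCommGrpCat.of (ULift.{u + 1} ℤ)) ⟶
      (BigSite.pullBig P T.hom AddCommGrpCat.{u + 1}).obj F) : F.obj.obj (op (top' T)) :=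
  φ.hom.app (op (Over.mk (𝟙 T.left))) (tS P T.left (op (Over.mk (𝟙 T.left))) (ULift.up 1))

theorem sec_injective (T : Over S) (F : BigSite.Ab P S) : Function.Injective (sec P T F) := by
  intro φ ψ h
  refine HResPull.const_ext P fun U => AddCommGrpCat.ext fun z => ?_
  have key : ∀ χ : (constantSheaf (QuotSh.J P T.left) AddCommGrpCat.{u + 1}).obj (AddCommGrpCat.of (ULift.{u + 1} ℤ)) ⟶
      (BigSite.pullBig P T.hom AddCommGrpCat.{u + 1}).obj F,
      χ.hom.app U (tS P T.left U (ULift.up 1)) =
        ((BigSite.pullBig P T.hom AddCommGrpCat.{u + 1}).obj F).obj.map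
          (Over.homMk U.unop.hom : U.unop ⟶ Over.mk (𝟙 T.left)).op (sec P T F χ) := fun χ => by
    refine Eq.trans ?_ (NatTrans.naturality_apply χ.hom (Over.homMk U.unop.hom : U.unop ⟶ Over.mk (𝟙 T.left)).op _)
    exact congrArg (χ.hom.app U) (congr($(HResPull.toSheafify_const_map P (M := AddCommGrpCat.of (ULift.{u + 1} ℤ))
      (Over.homMk U.unop.hom : U.unop ⟶ Over.mk (𝟙 T.left)).op) (ULift.up 1))).symm
  obtain ⟨n⟩ := z
  change φ.hom.app U (tS P T.left U ⟨n⟩) = ψ.hom.app U (tS P T.left U ⟨n⟩)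
  have hn : tS P T.left U ⟨n⟩ = n • tS P T.left U (ULift.up 1) := by
    rw [show (⟨n⟩ : ULift.{u + 1} ℤ) = n • ULift.up (1 : ℤ) from ULift.ext _ _ (mul_one n).symm]
    exact map_zsmul _ _ _
  rw [hn, map_zsmul, map_zsmul, key, key, h]

variable {T T' : Over S} (g : T' ⟶ T)

/-- The induced map between the terminal objects. -/
abbrev top'Map : top' T' ⟶ top' T := Over.homMk g.left (by simp)

/-- Restriction in degree `0` is restriction of sections. -/
theorem sec_resHU (F : BigSite.Ab P S)
    (φ : (constantSheaf (QuotSh.J P T.left) AddCommGrpCat.{u + 1}).obj (AddCommGrpCat.of (ULift.{u + 1} ℤ)) ⟶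
      (BigSite.pullBig P T.hom AddCommGrpCat.{u + 1}).obj F) :
    sec P T' F (((HRes.pullConst P g.left (AddCommGrpCat.of (ULift.{u + 1} ℤ))).inv ≫
      (BigSite.pullBig P g.left AddCommGrpCat.{u + 1}).map φ) ≫ (HRes.pullIso P F g).hom) =
      F.obj.map (top'Map g).op (sec P T F φ) := by
  let k : (Over.map g.left).obj (Over.mk (𝟙 T'.left)) ⟶ Over.mk (𝟙 T.left) := Over.homMk g.left (by simp)
  have h1 : φ.hom.app (op ((Over.map g.left).obj (Over.mk (𝟙 T'.left))))
      (tS P T.left _ (ULift.up 1)) =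
        F.obj.map ((Over.map T.hom).map k).op (sec P T F φ) := by
    refine Eq.trans ?_ (NatTrans.naturality_apply φ.hom k.op _)
    exact congrArg (φ.hom.app _) (congr($(HResPull.toSheafify_const_map P (M := AddCommGrpCat.of (ULift.{u + 1} ℤ)) k.op) (ULift.up 1))).symm
  change (HRes.pullIso P F g).hom.hom.app _ (φ.hom.app (op ((Over.map g.left).obj (Over.mk (𝟙 T'.left))))
    ((HRes.pullConst P g.left (AddCommGrpCat.of (ULift.{u + 1} ℤ))).inv.hom.app _ (tS P T'.left _ (ULift.up 1)))) = _
  refine (congrArg (fun z => (HRes.pullIso P F g).hom.hom.app (op (Over.mk (𝟙 T'.left))) (φ.hom.app _ z))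
    congr($(HResPull.toSheafify_pullConst_inv P g.left (AddCommGrpCat.of (ULift.{u + 1} ℤ)) (op (Over.mk (𝟙 T'.left)))) (ULift.up 1))).trans ?_
  refine (congrArg ((HRes.pullIso P F g).hom.hom.app (op (Over.mk (𝟙 T'.left)))) h1).trans ?_
  let c₂ : (Over.map (g.left ≫ T.hom)).obj (Over.mk (𝟙 T'.left)) ⟶
      (Over.map T.hom).obj ((Over.map g.left).obj (Over.mk (𝟙 T'.left))) := Over.homMk (𝟙 _) (by simp)
  let c₁ : top' T' ⟶ (Over.map (g.left ≫ T.hom)).obj (Over.mk (𝟙 T'.left)) := Over.homMk (𝟙 _) (by simp)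
  change F.obj.map c₁.op (F.obj.map c₂.op (F.obj.map ((Over.map T.hom).map k).op (sec P T F φ))) = _
  rw [← ConcreteCategory.comp_apply, ← Functor.map_comp, ← ConcreteCategory.comp_apply, ← Functor.map_comp]
  refine congrArg (fun f => F.obj.map f (sec P T F φ)) (Quiver.Hom.unop_inj (Over.OverMorphism.ext ?_))
  simp [k, c₁, c₂]

/-- Degree zero classes are detected on sections. -/
theorem HU_zero_injective {J₀ : Type*} (F : BigSite.Ab P S) {B : J₀ → Over S} (f : ∀ i, B i ⟶ T)
    (h : ∀ a b : F.obj.obj (op (top' T)), (∀ i, F.obj.map (top'Map (f i)).op a = F.obj.map (top'Map (f i)).op b) → a = b) :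
    Function.Injective (fun (x : BigSite.HU P F 0 T) i => HRes.resHU P F 0 (f i) x) := by
  intro x y hxy
  obtain ⟨φ, rfl⟩ := (Ext.mk₀_bijective _ _).2 x
  obtain ⟨ψ, rfl⟩ := (Ext.mk₀_bijective _ _).2 y
  refine congrArg Ext.mk₀ (sec_injective P T F (h _ _ fun i => ?_))
  rw [← sec_resHU, ← sec_resHU]
  refine congrArg (sec P (B i) F) ((Ext.mk₀_bijective _ _).1 ?_)
  have := congrFun hxy i
  simp only [HRes.resHU, AddMonoidHom.coe_comp, Function.comp_apply, Sheaf.H.map_apply, HRes.pull_apply,
    Ext.mapExactFunctor_mk₀, Ext.mk₀_comp_mk₀] at this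
  exact this

end Degree0

section Tensor

variable {K : Type u} [Field K] {A H : Type u} [CommRing A] [CommRing H] [Algebra K A] [Algebra K H]
  {J₀ : Type*} {B : J₀ → Type u} [∀ i, CommRing (B i)] [∀ i, Algebra K (B i)] (π : ∀ i, A →ₐ[K] B i)

theorem eq_zero_of_forall (hπ : ∀ a, (∀ i, π i a = 0) → a = 0) (z : A ⊗[K] H)
    (hz : ∀ i, Algebra.TensorProduct.map (π i) (AlgHom.id K H) z = 0) : z = 0 := by
  classical
  let b := Module.Free.chooseBasis K H
  let e := TensorProduct.equivFinsuppOfBasisRight (M := A) b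
  apply e.injective
  rw [map_zero]
  ext j
  refine hπ _ fun i => ?_
  have : ∀ w : A ⊗[K] H, TensorProduct.equivFinsuppOfBasisRight (M := B i) b
      (Algebra.TensorProduct.map (π i) (AlgHom.id K H) w) j = π i (e w j) := by
    intro w
    induction w with
    | zero => simp
    | tmul a c =>
      rw [Algebra.TensorProduct.map_tmul, TensorProduct.equivFinsuppOfBasisRight_apply_tmul_apply,
        TensorProduct.equivFinsuppOfBasisRight_apply_tmul_apply, map_smul]
      rfl
    | add p q hp hq => simp only [map_add, Finsupp.add_apply, hp, hq]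
  rw [← this, hz, map_zero]
  rfl

end Tensor

section Chart

open Shift

variable {R K : Type u} [CommRing R] [Field K] (r : R →+* K) (G : Over (Spec (CommRingCat.of R)))

/-- The generic fibre. -/
abbrev Gen : Scheme.{u} := pullback G.hom (Spec.map (CommRingCat.ofHom r))

/-- Its ring. -/
abbrev GenRing : Type u := Γ(Gen r G, ⊤)

/-- Its algebra structure. -/
def genAlg : Algebra K (GenRing r G) :=
  ((Scheme.ΓSpecIso (CommRingCat.of K)).inv ≫
    (pullback.snd G.hom (Spec.map (CommRingCat.ofHom r))).appTop).hom.toAlgebra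

variable [IsAffine (Gen r G)] (A : Type u) [CommRing A] [Algebra K A]

/-- An algebra as an object over the base. -/
abbrev obj : Over (Spec (CommRingCat.of R)) :=
  top' (Over.mk (Spec.map (CommRingCat.ofHom ((algebraMap K A).comp r))))

theorem isPullback :
    letI := genAlg r G
    IsPullback (Spec.map (CommRingCat.ofHom (Algebra.TensorProduct.includeLeftRingHom : A →+* A ⊗[K] GenRing r G)))
      (Spec.map (CommRingCat.ofHom (Algebra.TensorProduct.includeRight : GenRing r G →ₐ[K] A ⊗[K] GenRing r G).toRingHom) ≫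
        (Gen r G).isoSpec.inv ≫ pullback.fst _ _)
      (obj r A).hom G.hom := by
  letI := genAlg r G
  have h1 : IsPullback
      (Spec.map (CommRingCat.ofHom (Algebra.TensorProduct.includeLeftRingHom : A →+* A ⊗[K] GenRing r G)))
      (Spec.map (CommRingCat.ofHom (Algebra.TensorProduct.includeRight : GenRing r G →ₐ[K] A ⊗[K] GenRing r G).toRingHom))
      (Spec.map (CommRingCat.ofHom (algebraMap K A))) (Spec.map (CommRingCat.ofHom (algebraMap K (GenRing r G)))) :=
    IsPullback.of_iso_pullback ⟨by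
      rw [← Spec.map_comp, ← Spec.map_comp, ← CommRingCat.ofHom_comp, ← CommRingCat.ofHom_comp]
      congr 2
      exact RingHom.ext fun x => (Algebra.TensorProduct.tmul_one_eq_one_tmul (A := A) (B := GenRing r G) x)⟩
      (pullbackSpecIso K A (GenRing r G)).symm (pullbackSpecIso_inv_fst ..) (pullbackSpecIso_inv_snd ..)
  have hsnd : Spec.map (CommRingCat.ofHom (algebraMap K (GenRing r G))) =
      (Gen r G).isoSpec.inv ≫ pullback.snd G.hom (Spec.map (CommRingCat.ofHom r)) := by
    rw [Iso.eq_inv_comp]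
    change (Gen r G).toSpecΓ ≫ Spec.map ((Scheme.ΓSpecIso (CommRingCat.of K)).inv ≫
      (pullback.snd G.hom (Spec.map (CommRingCat.ofHom r))).appTop) = _
    rw [Spec.map_comp, ← Category.assoc, ← Scheme.toSpecΓ_naturality, Category.assoc]
    conv_lhs => rw [← Scheme.isoSpec_Spec_inv]
    exact (congrArg (_ ≫ ·) ((Spec (CommRingCat.of K)).isoSpec.hom_inv_id)).trans (Category.comp_id _)
  have h2 : IsPullback ((Gen r G).isoSpec.inv ≫ pullback.fst G.hom (Spec.map (CommRingCat.ofHom r)))
      (Spec.map (CommRingCat.ofHom (algebraMap K (GenRing r G)))) G.hom (Spec.map (CommRingCat.ofHom r)) :=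
    IsPullback.of_iso_pullback ⟨by rw [Category.assoc, pullback.condition, hsnd, Category.assoc]⟩
      (Gen r G).isoSpec.symm rfl hsnd.symm
  have h3 := h1.paste_vert h2.flip
  have e : Spec.map (CommRingCat.ofHom (algebraMap K A)) ≫ Spec.map (CommRingCat.ofHom r) = (obj r A).hom := by
    rw [← Spec.map_comp, ← CommRingCat.ofHom_comp]
    exact (Category.id_comp _).symm
  rwa [e] at h3

/-- The chart of the product with the group. -/
def chart :
    letI := genAlg r G
    Spec (CommRingCat.of (A ⊗[K] GenRing r G)) ≅ ((Fn G).obj (obj r A)).left :=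
  (isPullback r G A).isoPullback

variable {A} {J₀ : Type*} {B : J₀ → Type u} [∀ i, CommRing (B i)] [∀ i, Algebra K (B i)] (π : ∀ i, A →ₐ[K] B i)
  (f : ∀ i, obj r (B i) ⟶ obj r A) (hf : ∀ i, (f i).left = Spec.map (CommRingCat.ofHom (π i).toRingHom))

include hf in
/-- Functions on the product are detected by the family. -/
theorem fn_eq_zero (hπ : ∀ a, (∀ i, π i a = 0) → a = 0) (t : Γ(((Fn G).obj (obj r A)).left, ⊤))
    (ht : ∀ i, ((Fn G).map (f i)).left.appTop t = 0) : t = 0 := by
  letI := genAlg r G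
  let z : A ⊗[K] GenRing r G := (Scheme.ΓSpecIso _).hom ((chart r G A).hom.appTop t)
  have hz : z = 0 := by
    refine eq_zero_of_forall π hπ z fun i => ?_
    let m := CommRingCat.ofHom (Algebra.TensorProduct.map (π i) (AlgHom.id K (GenRing r G))).toRingHom
    have hc : Spec.map m ≫ (chart r G A).hom = (chart r G (B i)).hom ≫ ((Fn G).map (f i)).left := by
      apply pullback.hom_ext
      · rw [Category.assoc, Category.assoc]
        refine (congrArg (_ ≫ ·) ((isPullback r G A).isoPullback_hom_fst)).trans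
          (Eq.trans ?_ (congrArg (_ ≫ ·) (pullback.lift_fst _ _ _)).symm)
        rw [← Category.assoc]
        refine Eq.trans ?_ (congrArg (· ≫ (f i).left) ((isPullback r G (B i)).isoPullback_hom_fst)).symm
        rw [hf, ← Spec.map_comp, ← Spec.map_comp, ← CommRingCat.ofHom_comp, ← CommRingCat.ofHom_comp]
        congr 2
      · rw [Category.assoc, Category.assoc]
        refine (congrArg (_ ≫ ·) ((isPullback r G A).isoPullback_hom_snd)).trans
          (Eq.trans ?_ (congrArg (_ ≫ ·) (pullback.lift_snd _ _ _)).symm)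
        refine Eq.trans ?_ ((isPullback r G (B i)).isoPullback_hom_snd).symm
        rw [← Category.assoc, ← Spec.map_comp, ← CommRingCat.ofHom_comp]
        congr 3
        exact RingHom.ext fun a => by
          change Algebra.TensorProduct.map (π i) (AlgHom.id K _) (1 ⊗ₜ a) = 1 ⊗ₜ a
          rw [Algebra.TensorProduct.map_tmul]
          exact congrArg (· ⊗ₜ[K] a) (map_one (π i))
    change m _ = 0
    refine (congr($((Scheme.ΓSpecIso_naturality m).symm) ((chart r G A).hom.appTop t))).trans ?_
    rw [CommRingCat.comp_apply]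
    have : (Spec.map m).appTop ((chart r G A).hom.appTop t) = 0 := by
      rw [← CommRingCat.comp_apply, ← Scheme.Hom.comp_appTop, hc, Scheme.Hom.comp_appTop, CommRingCat.comp_apply,
        ht, map_zero]
    rw [this, map_zero]
  haveI : IsIso (chart r G A).hom.appTop := inferInstanceAs (IsIso ((chart r G A).hom.app ⊤))
  have h := (ConcreteCategory.bijective_of_isIso ((chart r G A).hom.appTop ≫ (Scheme.ΓSpecIso _).hom)).1
  exact h (hz.trans (map_zero _).symm)

variable [GrpObj G] [IsCommMonObj G]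

include hf in
/-- Characters are detected by the family. -/
theorem char_eq (hπ : ∀ a, (∀ i, π i a = 0) → a = 0)
    (φ ψ : (CGrpSh2.dualSh Scheme.fppfPrecoverage (CGrpSh.pts Scheme.fppfPrecoverage G)).obj.obj (op (obj r A)))
    (h : ∀ i, (CGrpSh2.dualSh Scheme.fppfPrecoverage (CGrpSh.pts Scheme.fppfPrecoverage G)).obj.map (f i).op φ =
      (CGrpSh2.dualSh Scheme.fppfPrecoverage (CGrpSh.pts Scheme.fppfPrecoverage G)).obj.map (f i).op ψ) : φ = ψ := by
  let B' := CGrpSh2.Gm Scheme.fppfPrecoverage (Spec (CommRingCat.of R))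
  apply Dual.χ_injective G B'
  let w : ∀ φ : (Dual.H G B').obj.obj (op (obj r A)), ((Fn G).obj (obj r A) ⟶ Red.Gm (Spec (CommRingCat.of R))) :=
    fun φ => (((Dual.χ G B').hom.app (op (obj r A)) φ) :
      ULift.{u + 1} (Additive ((Fn G).obj (obj r A) ⟶ Red.Gm (Spec (CommRingCat.of R))))).down.toMul
  suffices e : w φ = w ψ from ULift.ext _ _ (congrArg Additive.ofMul e)
  refine RedPts.Gm.gmFn_injective (sub_eq_zero.1 (fn_eq_zero r G π f hf hπ _ fun i => ?_))
  rw [map_sub, sub_eq_zero, ← RedPts.Gm.gmFn_comp, ← RedPts.Gm.gmFn_comp]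
  refine congrArg Red.gmFn ?_
  have h1 := congrArg ((Dual.χ G B').hom.app (op (obj r (B i)))) (h i)
  have h2 : ∀ φ, (Dual.χ G B').hom.app (op (obj r (B i))) ((Dual.H G B').obj.map (f i).op φ) =
      B'.obj.map ((Fn G).map (f i)).op ((Dual.χ G B').hom.app (op (obj r A)) φ) :=
    fun φ => NatTrans.naturality_apply (Dual.χ G B').hom (f i).op φ
  exact congrArg (fun z : ULift.{u + 1} (Additive ((Fn G).obj (obj r (B i)) ⟶ Red.Gm (Spec (CommRingCat.of R)))) =>
    z.down.toMul) ((h2 φ).symm.trans (h1.trans (h2 ψ)))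

end Chart

end Groth.Agent.Lib.GaGmExt.LocChar
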