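import Mathlib.AlgebraicGeometry.Morphisms.Separated
import Mathlib.AlgebraicGeometry.Morphisms.ClosedImmersion
import Mathlib.AlgebraicGeometry.Morphisms.FiniteType
import Mathlib.AlgebraicGeometry.Gluing
import Mathlib.AlgebraicGeometry.Limits
import Mathlib.Order.Filter.Cofinite
import Mathlib.RingTheory.Valuation.ValuationSubring

/-!
# Points of separated schemes of finite type in restricted products
-/

set_option autoImplicit false
set_option linter.style.haveILetI false

universe u

open CategoryTheory CategoryTheory.Limits AlgebraicGeometry Opposite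

noncomputable section

namespace Groth.Agent.Lib.GaGmExt.RestrPts

variable {R A : Type u} [CommRing R] [CommRing A] {G : Scheme.{u}} (g : G ⟶ Spec (CommRingCat.of R))
  {J₀ : Type*} {K : J₀ → Type u} [∀ v, Field (K v)] (φ : R →+* A) (π : ∀ v, A →+* K v)
  (O : ∀ v, ValuationSubring (K v))

/-- Points with values in `A` are determined by their components. -/
theorem ext_of_forall [IsSeparated g] (hπ : ∀ a, (∀ v, π v a = 0) → a = 0)
    (x y : Spec (CommRingCat.of A) ⟶ G) (hx : x ≫ g = y ≫ g)
    (h : ∀ v, Spec.map (CommRingCat.ofHom (π v)) ≫ x = Spec.map (CommRingCat.ofHom (π v)) ≫ y) : x = y := by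
  let T : Over (Spec (CommRingCat.of R)) := Over.mk (x ≫ g)
  let G' : Over (Spec (CommRingCat.of R)) := Over.mk g
  haveI : IsSeparated G'.hom := ‹_›
  let a : T ⟶ G' := Over.homMk x rfl
  let b : T ⟶ G' := Over.homMk y hx.symm
  haveI : IsClosedImmersion (equalizer.ι a b).left := inferInstance
  obtain ⟨I, e, he⟩ := IsClosedImmersion.Spec_iff.1 ‹IsClosedImmersion (equalizer.ι a b).left›
  have hI : I = ⊥ := by
    refine (Submodule.eq_bot_iff _).2 fun i hi => hπ i fun v => ?_
    let Tv : Over (Spec (CommRingCat.of R)) := Over.mk (Spec.map (CommRingCat.ofHom (π v)) ≫ x ≫ g)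
    let f : Tv ⟶ T := Over.homMk (Spec.map (CommRingCat.ofHom (π v))) rfl
    let l := (equalizer.lift (f := a) (g := b) f (Over.OverMorphism.ext (h v))).left ≫ e.hom
    have hl : l ≫ Spec.map (CommRingCat.ofHom (Ideal.Quotient.mk I)) = Spec.map (CommRingCat.ofHom (π v)) := by
      rw [Category.assoc, ← he, ← Over.comp_left, equalizer.lift_ι]
      rfl
    obtain ⟨m, hm⟩ : ∃ m, Spec.map m = l := ⟨Spec.preimage l, Spec.map_preimage l⟩
    rw [← hm, ← Spec.map_comp] at hl
    have := congr($(Spec.map_injective hl) i)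
    rw [CommRingCat.comp_apply] at this
    refine this.symm.trans ?_
    change m.hom (Ideal.Quotient.mk I i) = 0
    rw [Ideal.Quotient.eq_zero_iff_mem.2 hi, map_zero]
  subst hI
  haveI : IsIso (CommRingCat.ofHom (Ideal.Quotient.mk (⊥ : Ideal A))) :=
    (ConcreteCategory.isIso_iff_bijective _).2 ⟨(RingHom.injective_iff_ker_eq_bot _).2 Ideal.mk_ker,
      Ideal.Quotient.mk_surjective⟩
  haveI : IsIso (equalizer.ι a b).left := by rw [he]; infer_instance
  refine (cancel_epi (equalizer.ι a b).left).1 ?_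
  exact congrArg CommaMorphism.left (equalizer.condition a b)

/-- An affine chart. -/
structure Chart where
  opens : G.Opens
  affine : IsAffineOpen opens
  ring : R →+* Γ(G, opens)
  hring : affine.fromSpec ≫ g = Spec.map (CommRingCat.ofHom ring)

theorem exists_chart (x : G) : ∃ c : Chart g, x ∈ c.opens := by
  obtain ⟨U, hU, hx, -⟩ := exists_isAffineOpen_mem_and_subset (x := x) (U := (⊤ : G.Opens)) trivial
  exact ⟨⟨U, hU, (Spec.preimage (hU.fromSpec ≫ g)).hom, (Spec.map_preimage _).symm⟩, hx⟩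

variable {g}

theorem Chart.finiteType [LocallyOfFiniteType g] (c : Chart g) : c.ring.FiniteType := by
  have : LocallyOfFiniteType (Spec.map (CommRingCat.ofHom c.ring)) := by
    rw [← c.hring]; infer_instance
  exact (HasRingHomProperty.Spec_iff (P := @LocallyOfFiniteType)).1 this

/-- A morphism from an affine scheme landing in a chart. -/
theorem Chart.exists_hom (c : Chart g) {B : Type u} [CommRing B] (p : Spec (CommRingCat.of B) ⟶ G)
    (hp : ∀ z, p z ∈ c.opens) :
    ∃ ψ : Γ(G, c.opens) →+* B, Spec.map (CommRingCat.ofHom ψ) ≫ c.affine.fromSpec = p := by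
  have h : Set.range p ⊆ Set.range c.affine.fromSpec := by
    rw [c.affine.range_fromSpec]
    rintro _ ⟨z, rfl⟩
    exact hp z
  exact ⟨(Spec.preimage (IsOpenImmersion.lift c.affine.fromSpec p h)).hom,
    (congrArg (· ≫ _) (Spec.map_preimage _)).trans (IsOpenImmersion.lift_fac _ _ h)⟩

theorem Chart.hom_ring (c : Chart g) {B : Type u} [CommRing B] (ψ : Γ(G, c.opens) →+* B) (φ' : R →+* B)
    (h : Spec.map (CommRingCat.ofHom ψ) ≫ c.affine.fromSpec ≫ g = Spec.map (CommRingCat.ofHom φ')) :
    ψ.comp c.ring = φ' := by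
  rw [c.hring, ← Spec.map_comp] at h
  exact congrArg CommRingCat.Hom.hom (Spec.map_injective h)

variable (g)

theorem exists_finite_charts [QuasiCompact g] :
    ∃ (n : ℕ) (c : Fin n → Chart g), ∀ x : G, ∃ j, x ∈ (c j).opens := by
  choose c hc using exists_chart g
  have : CompactSpace G := QuasiCompact.compactSpace_of_compactSpace g
  obtain ⟨s, hs⟩ := isCompact_univ.elim_finite_subcover (fun x => ((c x).opens : Set G))
    (fun x => (c x).opens.isOpen) fun x _ => Set.mem_iUnion.2 ⟨x, hc x⟩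
  refine ⟨s.card, fun j => c (s.equivFin.symm j).1, fun x => ?_⟩
  obtain ⟨y, hy, hxy⟩ := Set.mem_iUnion₂.1 (hs (Set.mem_univ x))
  exact ⟨s.equivFin ⟨y, hy⟩, by simp only [Equiv.symm_apply_apply]; exact hxy⟩

variable [LocallyOfFiniteType g] [QuasiCompact g]

/-- Almost all components of a point with values in `A` are integral. -/
theorem eventually_integral (hint : ∀ a, ∀ᶠ v in Filter.cofinite, π v a ∈ O v)
    (hφ : ∀ᶠ v in Filter.cofinite, ∀ r, π v (φ r) ∈ O v)
    (x : Spec (CommRingCat.of A) ⟶ G) (hx : x ≫ g = Spec.map (CommRingCat.ofHom φ)) :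
    ∀ᶠ v in Filter.cofinite, ∃ q : Spec (CommRingCat.of (O v)) ⟶ G,
      (∀ φ' : R →+* O v, (O v).subtype.comp φ' = (π v).comp φ → q ≫ g = Spec.map (CommRingCat.ofHom φ')) ∧
      Spec.map (CommRingCat.ofHom (O v).subtype) ≫ q = Spec.map (CommRingCat.ofHom (π v)) ≫ x := by
  classical
  obtain ⟨n, c, hc⟩ := exists_finite_charts g
  have hloc : ∀ z : Spec (CommRingCat.of A), ∃ (j : Fin n) (f : A), z ∈ PrimeSpectrum.basicOpen f ∧
      ∀ w, w ∈ PrimeSpectrum.basicOpen f → x w ∈ (c j).opens := fun z => by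
    obtain ⟨j, hj⟩ := hc (x z)
    obtain ⟨_, ⟨f, rfl⟩, hzf, hf⟩ := PrimeSpectrum.isTopologicalBasis_basic_opens.exists_subset_of_mem_open
      hj ((x ⁻¹ᵁ (c j).opens).isOpen)
    exact ⟨j, f, hzf, fun w hw => hf hw⟩
  choose j f hzf hf using hloc
  have hspan : Ideal.span (Set.range f) = ⊤ := by
    by_contra hne
    obtain ⟨M, hM, hle⟩ := Ideal.exists_le_maximal _ hne
    exact hzf ⟨M, hM.isPrime⟩ (hle (Ideal.subset_span ⟨_, rfl⟩))
  obtain ⟨s, hsub, hs⟩ := (Ideal.span_eq_top_iff_finite _).1 hspan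
  have h1 : (1 : A) ∈ Ideal.span (s : Set A) := hs ▸ Submodule.mem_top
  obtain ⟨b, -, hb⟩ := Submodule.mem_span_finset.1 h1
  have key : ∀ a : A, a ∈ s → ∀ᶠ v in Filter.cofinite, IsUnit (π v a) → π v a ∈ O v → (π v a)⁻¹ ∈ O v →
      ∃ q : Spec (CommRingCat.of (O v)) ⟶ G,
        (∀ φ' : R →+* O v, (O v).subtype.comp φ' = (π v).comp φ → q ≫ g = Spec.map (CommRingCat.ofHom φ')) ∧
        Spec.map (CommRingCat.ofHom (O v).subtype) ≫ q = Spec.map (CommRingCat.ofHom (π v)) ≫ x := by
    intro a ha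
    obtain ⟨z, rfl⟩ := hsub ha
    let ch := c (j z)
    let al := algebraMap A (Localization.Away (f z))
    obtain ⟨ψ, hψ⟩ := ch.exists_hom (Spec.map (CommRingCat.ofHom al) ≫ x) fun w => by
      rw [Scheme.Hom.comp_apply]
      refine hf z _ ?_
      exact (PrimeSpectrum.localization_away_comap_range (Localization.Away (f z)) (f z)).le ⟨w, rfl⟩
    have hft := ch.finiteType
    letI := ch.ring.toAlgebra
    obtain ⟨t, ht⟩ := hft.out
    have hsurj : ∀ e : Γ(G, ch.opens), ∃ (m : ℕ) (d : A), ψ e * al (f z ^ m) = al d := fun e => by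
      obtain ⟨⟨d, ⟨_, m, rfl⟩⟩, hd⟩ := IsLocalization.surj (Submonoid.powers (f z)) (ψ e)
      exact ⟨m, d, hd⟩
    choose m d hd using hsurj
    filter_upwards [(Filter.eventually_all_finset t).2 fun e _ => hint (d e), hφ] with v hv hφv hu hO hO'
    let π' : Localization.Away (f z) →+* K v := IsLocalization.Away.lift (f z) hu
    have hπ' : π'.comp al = π v := RingHom.ext fun y => IsLocalization.Away.lift_eq (f z) hu y
    let χ := π'.comp ψ
    have hχx : Spec.map (CommRingCat.ofHom χ) ≫ ch.affine.fromSpec = Spec.map (CommRingCat.ofHom (π v)) ≫ x := by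
      rw [CommRingCat.ofHom_comp, Spec.map_comp, Category.assoc, hψ, ← Category.assoc, ← Spec.map_comp,
        ← CommRingCat.ofHom_comp, hπ']
    have hχr : χ.comp ch.ring = (π v).comp φ := ch.hom_ring χ _ (by
      rw [← Category.assoc, hχx, Category.assoc, hx, ← Spec.map_comp, ← CommRingCat.ofHom_comp])
    have hmem : ∀ e, χ e ∈ O v := by
      intro e
      have he : e ∈ Algebra.adjoin R (t : Set Γ(G, ch.opens)) := ht ▸ Algebra.mem_top
      induction he using Algebra.adjoin_induction with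
      | mem y hy =>
        have h2 := congrArg π' (hd y)
        rw [map_mul, ← RingHom.comp_apply, ← RingHom.comp_apply, ← RingHom.comp_apply, hπ', map_pow] at h2
        have h3 : χ y = π v (d y) * ((π v (f z))⁻¹) ^ m y := by
          rw [inv_pow, ← h2, mul_assoc, mul_inv_cancel₀ (pow_ne_zero _ hu.ne_zero), mul_one]
        rw [h3]
        exact mul_mem (hv y hy) (pow_mem hO' _)
      | algebraMap r =>
        rw [RingHom.algebraMap_toAlgebra, ← RingHom.comp_apply, hχr]
        exact hφv r
      | add _ _ _ _ p q => rw [map_add]; exact add_mem p q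
      | mul _ _ _ _ p q => rw [map_mul]; exact mul_mem p q
    let χ₀ : Γ(G, ch.opens) →+* O v := χ.codRestrict (O v).toSubring hmem
    have hχ₀ : (O v).subtype.comp χ₀ = χ := RingHom.ext fun _ => rfl
    refine ⟨Spec.map (CommRingCat.ofHom χ₀) ≫ ch.affine.fromSpec, fun φ' hφ' => ?_, ?_⟩
    · rw [Category.assoc, ch.hring, ← Spec.map_comp, ← CommRingCat.ofHom_comp]
      congr 2
      refine RingHom.ext fun r => Subtype.ext ?_
      exact (RingHom.congr_fun hχr r).trans (RingHom.congr_fun hφ' r).symm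
    · rw [← Category.assoc, ← Spec.map_comp, ← CommRingCat.ofHom_comp, hχ₀, hχx]
  filter_upwards [(Filter.eventually_all_finset s).2 key, (Filter.eventually_all_finset s).2 fun a _ => hint a,
    (Filter.eventually_all_finset s).2 fun a _ => hint (b a)] with v hk ha hb'
  have hex : ∃ (a : A) (h : a ∈ s), IsUnit (⟨π v a, ha a h⟩ : O v) := by
    by_contra hno
    push Not at hno
    have h2 : (∑ a : s, (⟨π v (b a), hb' a a.2⟩ : O v) * ⟨π v a, ha a a.2⟩) = 1 := by
      refine Subtype.ext ?_
      push_cast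
      rw [Finset.sum_coe_sort s (fun a => π v (b a) * π v a)]
      simp only [← map_mul, ← map_sum]
      refine (congrArg (π v) ?_).trans (map_one _)
      simpa [smul_eq_mul] using hb
    refine (IsLocalRing.maximalIdeal (O v)).ne_top_iff_one.1 (IsLocalRing.maximalIdeal.isMaximal _).ne_top (h2 ▸ ?_)
    exact sum_mem fun a _ => Ideal.mul_mem_left _ _ ((IsLocalRing.mem_maximalIdeal _).2 (hno a a.2))
  obtain ⟨a, h, hu⟩ := hex
  obtain ⟨u, hu'⟩ := hu
  have hu0 : IsUnit (π v a) := by
    have := (u.isUnit.map (O v).subtype)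
    rwa [hu'] at this
  refine hk a h hu0 (ha a h) ?_
  have : ((↑u⁻¹ : O v) : K v) = (π v a)⁻¹ := by
    refine eq_inv_of_mul_eq_one_left ?_
    have := congrArg (fun y : O v => (y : K v)) u.inv_mul
    rw [hu'] at this
    exact this
  rw [← this]
  exact SetLike.coe_mem _

omit [LocallyOfFiniteType g] in
/-- A family of points, almost all integral, comes from a point with values in `A`. -/
theorem exists_point
    (hint : ∀ a : ∀ v, K v, (∀ᶠ v in Filter.cofinite, a v ∈ O v) → ∃ b : A, ∀ v, π v b = a v)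
    (hπ : ∀ a, (∀ v, π v a = 0) → a = 0)
    (p : ∀ v, Spec (CommRingCat.of (K v)) ⟶ G)
    (hp : ∀ v, p v ≫ g = Spec.map (CommRingCat.ofHom ((π v).comp φ)))
    (hq : ∀ᶠ v in Filter.cofinite, ∃ q : Spec (CommRingCat.of (O v)) ⟶ G,
      Spec.map (CommRingCat.ofHom (O v).subtype) ≫ q = p v) :
    ∃ x : Spec (CommRingCat.of A) ⟶ G, x ≫ g = Spec.map (CommRingCat.ofHom φ) ∧
      ∀ v, Spec.map (CommRingCat.ofHom (π v)) ≫ x = p v := by
  classical
  obtain ⟨n, c, hc⟩ := exists_finite_charts g
  -- the chart and the homomorphism at each index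
  have hv : ∀ v, ∃ (j : Fin n) (ψ : Γ(G, (c j).opens) →+* K v),
      Spec.map (CommRingCat.ofHom ψ) ≫ (c j).affine.fromSpec = p v ∧
      ((∃ q : Spec (CommRingCat.of (O v)) ⟶ G, Spec.map (CommRingCat.ofHom (O v).subtype) ≫ q = p v) →
        ∀ e, ψ e ∈ O v) := by
    intro v
    by_cases hg : ∃ q : Spec (CommRingCat.of (O v)) ⟶ G, Spec.map (CommRingCat.ofHom (O v).subtype) ≫ q = p v
    · obtain ⟨q, hq⟩ := hg
      obtain ⟨j, hj⟩ := hc (q (IsLocalRing.closedPoint (O v)))
      obtain ⟨ψ, hψ⟩ := (c j).exists_hom q fun z =>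
        ((IsLocalRing.specializes_closedPoint z).map q.continuous).mem_open (c j).opens.isOpen hj
      refine ⟨j, (O v).subtype.comp ψ, ?_, fun _ e => (ψ e).2⟩
      rw [CommRingCat.ofHom_comp, Spec.map_comp, Category.assoc, hψ, hq]
    · obtain ⟨j, hj⟩ := hc (p v default)
      obtain ⟨ψ, hψ⟩ := (c j).exists_hom (p v) fun z => by rwa [Subsingleton.elim z default]
      exact ⟨j, ψ, hψ, fun h => absurd h hg⟩
  choose j ψ hψ hψO using hv
  let Ψ : ∀ (i : Fin n) (v : J₀), Γ(G, (c i).opens) → K v := fun i v e =>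
    if h : j v = i then ψ v (h ▸ e) else 0
  have hΨ : ∀ i e, ∀ᶠ v in Filter.cofinite, Ψ i v e ∈ O v := fun i e => by
    filter_upwards [hq] with v hv
    by_cases h : j v = i
    · simp only [Ψ, dif_pos h]; exact hψO v hv _
    · simp only [Ψ, dif_neg h]; exact zero_mem _
  choose Φ hΦ using fun i e => hint (fun v => Ψ i v e) (hΨ i e)
  have hext : ∀ a b : A, (∀ v, π v a = π v b) → a = b := fun a b h =>
    sub_eq_zero.1 (hπ _ fun v => by rw [map_sub, h, sub_self])
  have hmul : ∀ i e e', Φ i (e * e') = Φ i e * Φ i e' := fun i e e' => hext _ _ fun v => by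
    rw [map_mul, hΦ, hΦ, hΦ]
    by_cases h : j v = i
    · subst h; simp only [Ψ, dif_pos, map_mul]
    · simp only [Ψ, dif_neg h, mul_zero]
  have hadd : ∀ i e e', Φ i (e + e') = Φ i e + Φ i e' := fun i e e' => hext _ _ fun v => by
    rw [map_add, hΦ, hΦ, hΦ]
    by_cases h : j v = i
    · subst h; simp only [Ψ, dif_pos, map_add]
    · simp only [Ψ, dif_neg h, add_zero]
  have hzero : ∀ i, Φ i 0 = 0 := fun i => hext _ _ fun v => by
    rw [map_zero, hΦ]
    by_cases h : j v = i
    · subst h; simp only [Ψ, dif_pos, map_zero]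
    · simp only [Ψ, dif_neg h]
  let e₀ : Fin n → A := fun i => Φ i 1
  have he₀ : ∀ i v, π v (e₀ i) = if j v = i then 1 else 0 := fun i v => by
    rw [hΦ]
    by_cases h : j v = i
    · subst h; simp only [Ψ, dif_pos, map_one, if_true]
    · simp only [Ψ, dif_neg h, if_neg h]
  have hspan : Ideal.span (Set.range e₀) = ⊤ := by
    refine (Ideal.eq_top_iff_one _).2 ?_
    have : (1 : A) = ∑ i, e₀ i := hext _ _ fun v => by
      rw [map_one, map_sum]
      simp [he₀]
    rw [this]
    exact sum_mem fun i _ => Ideal.subset_span ⟨i, rfl⟩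
  have hone : ∀ i, algebraMap A (Localization.Away (e₀ i)) (e₀ i) = 1 := fun i => by
    have h2 := congrArg (algebraMap A (Localization.Away (e₀ i))) (hmul i 1 1)
    rw [mul_one, map_mul] at h2
    refine (IsLocalization.Away.algebraMap_isUnit (e₀ i)).mul_left_cancel ?_
    rw [mul_one]
    exact h2.symm
  let hom : ∀ i, Γ(G, (c i).opens) →+* Localization.Away (e₀ i) := fun i =>
    { toFun := fun e => algebraMap A (Localization.Away (e₀ i)) (Φ i e)
      map_one' := hone i
      map_mul' := fun e e' => by rw [hmul, map_mul]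
      map_zero' := by rw [hzero, map_zero]
      map_add' := fun e e' => by rw [hadd, map_add] }
  let 𝒰 := (Scheme.affineOpenCoverOfSpanRangeEqTop (R := CommRingCat.of A) e₀ hspan).openCover
  let f : ∀ i : Fin n, Spec (CommRingCat.of (Localization.Away (e₀ i))) ⟶ G := fun i =>
    Spec.map (CommRingCat.ofHom (hom i)) ≫ (c i).affine.fromSpec
  have hover : ∀ i, (hom i).comp (c i).ring = (algebraMap A (Localization.Away (e₀ i))).comp φ := by
    intro i
    refine RingHom.ext fun r => ?_
    change algebraMap A (Localization.Away (e₀ i)) (Φ i ((c i).ring r)) = algebraMap A (Localization.Away (e₀ i)) (φ r)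
    have h3 : Φ i ((c i).ring r) = e₀ i * φ r := hext _ _ fun v => by
      rw [map_mul, he₀, hΦ]
      by_cases h : j v = i
      · subst h
        simp only [Ψ, dif_pos, if_true, one_mul]
        refine RingHom.congr_fun ((c (j v)).hom_ring (ψ v) ((π v).comp φ) ?_) r
        rw [← Category.assoc, hψ, hp]
      · simp only [Ψ, dif_neg h, if_neg h, zero_mul]
    rw [h3, map_mul, hone, one_mul]
  have hcompat : ∀ a b : 𝒰.I₀, pullback.fst (𝒰.f a) (𝒰.f b) ≫ f a = pullback.snd (𝒰.f a) (𝒰.f b) ≫ f b := by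
    intro a b
    by_cases hab : a = b
    · subst hab
      have : pullback.fst (𝒰.f a) (𝒰.f a) = pullback.snd (𝒰.f a) (𝒰.f a) :=
        (cancel_mono (𝒰.f a)).1 pullback.condition
      rw [this]
    · have : IsEmpty ↥(pullback (𝒰.f a) (𝒰.f b)) := ⟨fun w => by
        have h0 : e₀ a * e₀ b = 0 := hπ _ fun v => by
          rw [map_mul, he₀, he₀]
          by_cases h : j v = a
          · rw [if_neg (show ¬ j v = b from fun h' => hab (h.symm.trans h')), mul_zero]
          · rw [if_neg h, zero_mul]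
        let z := (pullback.fst (𝒰.f a) (𝒰.f b) ≫ 𝒰.f a) w
        have hza : z ∈ PrimeSpectrum.basicOpen (e₀ a) :=
          (PrimeSpectrum.localization_away_comap_range (Localization.Away (e₀ a)) (e₀ a)).le
            ⟨pullback.fst (𝒰.f a) (𝒰.f b) w, rfl⟩
        have hzb : z ∈ PrimeSpectrum.basicOpen (e₀ b) := by
          simp only [z, pullback.condition]
          exact (PrimeSpectrum.localization_away_comap_range (Localization.Away (e₀ b)) (e₀ b)).le
            ⟨pullback.snd (𝒰.f a) (𝒰.f b) w, rfl⟩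
        have hz0 : (e₀ a * e₀ b) ∈ (z : PrimeSpectrum A).asIdeal := by rw [h0]; exact zero_mem _
        rcases z.isPrime.mem_or_mem hz0 with h | h
        exacts [hza h, hzb h]⟩
      exact (isInitialOfIsEmpty (X := pullback (𝒰.f a) (𝒰.f b))).hom_ext _ _
  refine ⟨Scheme.Cover.glueMorphisms 𝒰 f hcompat, Scheme.Cover.hom_ext 𝒰 _ _ fun i => ?_, fun v => ?_⟩
  · rw [Scheme.Cover.ι_glueMorphisms_assoc]
    change (Spec.map (CommRingCat.ofHom (hom i)) ≫ (c i).affine.fromSpec) ≫ g = _
    rw [Category.assoc, (c i).hring, ← Spec.map_comp, ← CommRingCat.ofHom_comp, hover]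
    rw [CommRingCat.ofHom_comp, Spec.map_comp]
    rfl
  · have hu : IsUnit (π v (e₀ (j v))) := by rw [he₀, if_pos rfl]; exact isUnit_one
    let π' : Localization.Away (e₀ (j v)) →+* K v := IsLocalization.Away.lift (e₀ (j v)) hu
    have hπ' : π'.comp (algebraMap A (Localization.Away (e₀ (j v)))) = π v :=
      RingHom.ext fun y => IsLocalization.Away.lift_eq (e₀ (j v)) hu y
    rw [← hπ', CommRingCat.ofHom_comp, Spec.map_comp, Category.assoc]
    refine (congrArg (Spec.map (CommRingCat.ofHom π') ≫ ·) (Scheme.Cover.ι_glueMorphisms 𝒰 f hcompat (j v))).trans ?_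
    change Spec.map _ ≫ Spec.map (CommRingCat.ofHom (hom (j v))) ≫ (c (j v)).affine.fromSpec = _
    rw [← Category.assoc, ← Spec.map_comp, ← CommRingCat.ofHom_comp, ← hψ v]
    congr 3
    refine RingHom.ext fun e => ?_
    change π' (algebraMap A (Localization.Away (e₀ (j v))) (Φ (j v) e)) = ψ v e
    rw [← RingHom.comp_apply, hπ', hΦ]
    simp only [Ψ, dif_pos]

end Groth.Agent.Lib.GaGmExt.RestrPts
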